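import Cfsg.Agent.H412.FC.Geo
import Cfsg.Agent.H412.FC.BBridge
import Cfsg.Agent.H786.FC.Bridge

/-!
# S5764 [B-AUTSP]: `ThmB → StmtSp4G → StmtAutSp` (helper214, after helper412's `AutU`)
-/

set_option autoImplicit false

namespace Cfsg.Agent.H214.FC

open Subgroup Cfsg
open Cfsg.Agent.H903.SylSemi (Semi SemiSp scal scal_apply Ind)
open Cfsg.Agent.ClassicalGeometry.SympAutSemi Cfsg.Agent.ClassicalGeometry.SympBasic
open Cfsg.Agent.H412.FC (IsSim isSim_hm isSim_of_isom exists_conj_isom Fam SolG Concl five_of_geo Ph_mem_RB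
  semi_of_isSim)
open Cfsg.Agent.H198.FC (Cl RB cj hm hm_apply FiveB ThmB StmtAutSp FiveAut StmtSp4G)
open Cfsg.Agent.H200.FC (Ph Ph_apply Ph_apply' eq_Ph Ph_mem Ph_hm Ph_ker hm_mem lin_mem ofU toU ofU_apply ofU_coe
  toU_ofU toU_coe Ph_lin)

/-- the standard symplectic form as a `Cl` -/
def clSp (F : Type) [Field F] (m : ℕ) : Cl F (Fin m ⊕ Fin m → F) where
  τ := RingEquiv.refl F
  B := sympForm m F
  add_left := sympForm_add_left
  add_right := sympForm_add_right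
  smul_left := sympForm_smul_left
  smul_right a v w := sympForm_smul_right a v w
  nondeg _ h := eq_zero_of_forall_sympForm_right h
  invol _ := rfl
  typ := Or.inr ⟨fun _ => rfl, fun v => sympForm_self v⟩

variable {F : Type} [Field F] {m : ℕ}

theorem semiSp_iff' (y : Equiv.Perm (Fin m ⊕ Fin m → F)) :
    SemiSp F m y ↔ ∃ σ μ, IsSim (clSp F m) y σ μ := by
  constructor
  · rintro ⟨θ, τ, h0, ⟨h1, h2⟩, h3⟩
    exact ⟨θ, τ, h0, h1, h2, h3⟩
  · rintro ⟨θ, τ, h0, h1, h2, h3⟩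
    exact ⟨θ, τ, h0, ⟨h1, h2⟩, h3⟩

variable (F m) in
/-- linear isometries of determinant 1 -/
def XSp (g : Equiv.Perm (Fin m ⊕ Fin m → F)) : Prop :=
  ∃ x : (Fin m ⊕ Fin m → F) ≃ₗ[F] (Fin m ⊕ Fin m → F),
    LinearMap.det (x : (Fin m ⊕ Fin m → F) →ₗ[F] (Fin m ⊕ Fin m → F)) = 1 ∧
    (∀ v w, (clSp F m).B (x v) (x w) = (clSp F m).B v w) ∧
      (x.toEquiv : Equiv.Perm (Fin m ⊕ Fin m → F)) = g

theorem famSp : Fam F (SemiSp F m) (XSp F m) where
  one := (semiSp_iff' 1).2 ⟨_, _, IsSim.one _⟩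
  mul y y' h h' := by
    obtain ⟨σ, μ, h1⟩ := (semiSp_iff' y).1 h
    obtain ⟨σ', μ', h1'⟩ := (semiSp_iff' y').1 h'
    exact (semiSp_iff' _).2 ⟨_, _, h1.mul h1'⟩
  scal a := (semiSp_iff' _).2 ⟨_, _, isSim_hm (clSp F m) a⟩
  semi := by
    rintro y ⟨θ, τ, h0, h1, h3⟩
    exact ⟨θ, h1⟩
  XY := by
    rintro _ ⟨x, -, hx, rfl⟩
    exact (semiSp_iff' _).2 ⟨_, _, isSim_of_isom x hx⟩
  Xconj := by
    rintro y _ hy ⟨x, hd, hx, rfl⟩
    obtain ⟨σ, μ, h1⟩ := (semiSp_iff' y).1 hy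
    obtain ⟨z, z1, z2, z3⟩ := exists_conj_isom h1 x hd hx
    exact ⟨z, z1, z2, z3⟩

theorem XSp_sp {g : Equiv.Perm (Fin m ⊕ Fin m → F)} (h : XSp F m g) : ∃ s, rho m F s = g := by
  obtain ⟨x, -, hx, rfl⟩ := h
  exact exists_rho_eq _ (fun u v => map_add x u v) (fun a v => map_smul x a v) hx

theorem big_clSp [Fintype F] (hm : 2 ≤ m) (h3 : m = 2 → 3 ≤ Fintype.card F) : (clSp F m).Big := by
  have hf : Module.finrank F (Fin m ⊕ Fin m → F) = m + m := by
    rw [Module.finrank_pi]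
    simp
  refine Or.inr ⟨⟨fun _ => rfl, fun v => sympForm_self v⟩, ?_, fun h4 => ?_⟩
  · rw [hf]
    omega
  · rw [hf] at h4
    rw [Nat.card_eq_fintype_card]
    exact h3 (by omega)

theorem geoSp [Fintype F] (hB : ThmB.{0, 0}) (hm : 2 ≤ m) (h32 : m = 2 → 3 ≤ Fintype.card F)
    (G : Subgroup (Equiv.Perm (Fin m ⊕ Fin m → F))) (hG : SolG F (SemiSp F m) G) : Concl F (XSp F m) G := by
  classical
  have hnt : Nontrivial (Fin m ⊕ Fin m → F) := by
    have : Nonempty (Fin m ⊕ Fin m) := ⟨Sum.inl ⟨0, by omega⟩⟩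
    infer_instance
  have hle : G ≤ H198.FC.Semi F (Fin m ⊕ Fin m → F) := by
    intro y hy
    obtain ⟨σ, μ, h⟩ := (semiSp_iff' y).1 (hG.mem y hy)
    exact semi_of_isSim h
  let SR : Subgroup (Equiv.Perm (H198.FC.R F (Fin m ⊕ Fin m → F))) :=
    (G.comap (H198.FC.Semi F (Fin m ⊕ Fin m → F)).subtype).map (Ph F (Fin m ⊕ Fin m → F))
  have h1 : SR ≤ RB (clSp F m) := by
    rintro _ ⟨g, hg, rfl⟩
    obtain ⟨σ, μ, h⟩ := (semiSp_iff' _).1 (hG.mem _ hg)
    exact Ph_mem_RB h g.2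
  have h2 : Group.IsSolvable SR := by
    have h1 : Group.IsSolvable (G.comap (H198.FC.Semi F (Fin m ⊕ Fin m → F)).subtype) := by
      have := hG.sol
      apply Group.isSolvable_of_isSolvable_injective
        (f := (H198.FC.Semi F (Fin m ⊕ Fin m → F)).subtype.subgroupComap G)
      intro a b hab
      apply Subtype.ext
      apply Subtype.ext
      have h2 : ((H198.FC.Semi F (Fin m ⊕ Fin m → F)).subtype.subgroupComap G a).1 =
        ((H198.FC.Semi F (Fin m ⊕ Fin m → F)).subtype.subgroupComap G b).1 := by rw [hab]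
      exact h2
    exact Group.isSolvable_of_surjective
      ((Ph F (Fin m ⊕ Fin m → F)).subgroupMap_surjective
        (G.comap (H198.FC.Semi F (Fin m ⊕ Fin m → F)).subtype))
  obtain ⟨x, hd, hx, hS⟩ := hB F (Fin m ⊕ Fin m → F) (clSp F m) (big_clSp hm h32) SR h1 h2
  refine ⟨fun i => ((ofU (x i)).symm.toEquiv : Equiv.Perm (Fin m ⊕ Fin m → F)), fun i => ?_,
    fun y hy hi => ?_⟩
  · refine ⟨(ofU (x i)).symm, ?_, fun v w => ?_, rfl⟩
    · have h3 : LinearMap.det ((ofU (x i) : (Fin m ⊕ Fin m → F) ≃ₗ[F] (Fin m ⊕ Fin m → F)) :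
          (Fin m ⊕ Fin m → F) →ₗ[F] (Fin m ⊕ Fin m → F)) = 1 := by
        rw [ofU_coe]; exact hd i
      have h4 := LinearEquiv.det_symm_mul_det (ofU (x i))
      rwa [h3, mul_one] at h4
    · have h5 := hx i ((ofU (x i)).symm v) ((ofU (x i)).symm w)
      have e1 : (x i : H198.FC.R F (Fin m ⊕ Fin m → F)) ((ofU (x i)).symm v) = v :=
        (ofU (x i)).apply_symm_apply v
      have e2 : (x i : H198.FC.R F (Fin m ⊕ Fin m → F)) ((ofU (x i)).symm w) = w :=
        (ofU (x i)).apply_symm_apply w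
      rw [e1, e2] at h5
      exact h5.symm
  · have hy' := hle hy
    have h6 : Ph F (Fin m ⊕ Fin m → F) ⟨y, hy'⟩ = 1 := by
      apply hS
      · exact ⟨⟨y, hy'⟩, hy, rfl⟩
      · intro i
        rw [← Ph_lin, ← map_inv, ← map_mul, ← map_mul]
        refine ⟨_, ?_, rfl⟩
        exact hi i
    obtain ⟨a, ha⟩ := Ph_ker ⟨y, hy'⟩ h6
    refine ⟨a, ?_⟩
    have ha' : y = H198.FC.hm F (Fin m ⊕ Fin m → F) a := ha
    rw [ha']
    ext v
    rfl

/-- the solvable groups of automorphisms induced by semisimilitudes -/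
theorem fiveAut_range [Fintype F] (hB : ThmB.{0, 0}) (hm : 2 ≤ m) (h32 : m = 2 → 3 ≤ Fintype.card F)
    (S : Subgroup (MulAut (Cfsg.PSp m F))) (hS : Group.IsSolvable S) (hSP : S ≤ (Psi m F).range) :
    ∃ x : Fin 4 → Cfsg.PSp m F, ∀ α ∈ S,
      (∀ i, MulAut.conj (x i) * α * (MulAut.conj (x i))⁻¹ ∈ S) → α = 1 := by
  have hfin : Finite (Cfsg.PSp m F) := by
    unfold Cfsg.PSp
    infer_instance
  have hπ : Function.Surjective (QuotientGroup.mk' (Subgroup.center (Matrix.symplecticGroup (Fin m) F))) :=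
    QuotientGroup.mk'_surjective _
  have key : H786.FC.Five (H786.FC.InnG (Cfsg.PSp m F)) S := by
    refine five_of_geo (T := Cfsg.PSp m F)
      (π := QuotientGroup.mk' (Subgroup.center (Matrix.symplecticGroup (Fin m) F))) hπ
      (ρ := rho m F) rho_injective famSp ?_ ?_ (fun g => XSp_sp) (geoSp hB hm h32) hS ?_
    · intro s
      exact ⟨(isSemi_rho s).1, (isSemi_rho s).2.1⟩
    · intro y hy hind
      have hy' := (H513.MeetPSp.semiSp_iff y).1 hy
      have h1 : Psi m F ⟨y, hy'⟩ = 1 :=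
        Ind.unique hπ rho_injective (H513.MeetPSp.ind_Psi ⟨y, hy'⟩) hind
      obtain ⟨a, ha⟩ := Cfsg.Agent.ClassicalGeometry.SympGamma.exists_scal_of_Psi_eq_one (by omega) _ h1
      refine ⟨a, ?_⟩
      ext1 v
      exact DFunLike.congr_fun ha v
    · intro β hβ
      obtain ⟨g, rfl⟩ := hSP hβ
      exact ⟨g, (H513.MeetPSp.semiSp_iff _).2 g.2, H513.MeetPSp.ind_Psi g⟩
  obtain ⟨x, hx, hx'⟩ := key
  choose t ht using fun i => hx i
  refine ⟨fun i => (t i)⁻¹, fun s hs hi => hx' s hs fun i => ?_⟩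
  have := hi i
  rw [map_inv, inv_inv, ht i] at this
  exact this

/-- all automorphisms of `PSp(2m, F)` are induced by semisimilitudes -/
theorem fiveAut_of_surj [Fintype F] (hB : ThmB.{0, 0}) (hm : 2 ≤ m) (h32 : m = 2 → 3 ≤ Fintype.card F)
    (hsurj : Function.Surjective (Psi m F)) : FiveAut (Cfsg.PSp m F) :=
  fun S hS => fiveAut_range hB hm h32 S hS fun β _ => hsurj β

/-- the hypothesis supplied to the graph case `PSp₄(2^f)` -/
def Range4 (F : Type) [Field F] : Prop :=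
  ∀ S : Subgroup (MulAut (Cfsg.PSp 2 F)), Group.IsSolvable S → S ≤ (Psi 2 F).range →
    ∃ x : Fin 4 → Cfsg.PSp 2 F, ∀ α ∈ S,
      (∀ i, MulAut.conj (x i) * α * (MulAut.conj (x i))⁻¹ ∈ S) → α = 1

/-- the graph case, from `ThmB` and the reduction for a single field (helper319's form) -/
theorem stmtSp4G_of (hB : ThmB.{0, 0})
    (hG : ∀ (F : Type) [Field F] [Finite F] [CharP F 2], 4 ≤ Nat.card F → Range4 F →
      FiveAut (Cfsg.PSp 2 F)) : StmtSp4G := by
  intro F _ _ hF h4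
  refine hG F (by rwa [Nat.card_eq_fintype_card]) ?_
  exact fun S hS hSP => fiveAut_range hB le_rfl (fun _ => by omega) S hS hSP

/-- **[B-AUTSP]** -/
theorem stmtAutSp (hB : ThmB.{0, 0}) (hG : StmtSp4G) : StmtAutSp := by
  intro F _ _ m hm h32
  by_cases hcase : 3 ≤ m ∨ (2 : F) ≠ 0
  · refine fiveAut_of_surj hB hm h32 fun β => ?_
    exact Cfsg.Agent.ClassicalGeometry.SympAutExists.exists_semi hm β
      (Cfsg.Agent.ClassicalGeometry.SympAutOddA.recog hm hcase β)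
  · push Not at hcase
    obtain ⟨hm3, h20⟩ := hcase
    obtain rfl : m = 2 := by omega
    have hchar : CharP F 2 := CharTwo.of_one_ne_zero_of_two_eq_zero one_ne_zero h20
    refine hG F hchar ?_
    have h3 := h32 rfl
    obtain ⟨n, -, hn⟩ := FiniteField.card F 2
    rw [hn] at h3 ⊢
    have hn0 : (n : ℕ) ≠ 1 := by
      intro h
      rw [h] at h3
      omega
    have hn1 := n.pos
    calc 4 = 2 ^ 2 := by norm_num
      _ ≤ 2 ^ (n : ℕ) := Nat.pow_le_pow_right (by norm_num) (by omega)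

end Cfsg.Agent.H214.FC
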