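import Cfsg.Agent.H563.FC.Iso

/-!
# Isotropic vectors of unitary forms in all characteristics (helper214, after helper563)
-/

set_option autoImplicit false

namespace Cfsg.Agent.H214.FC

open Cfsg.Agent.H198.FC Cfsg.Agent.H706.FC Cfsg.Agent.H563.FC

universe u v

variable {K : Type u} [Field K] {V : Type v} [AddCommGroup V] [Module K V] {b : Cl K V}

/-- the trace `K → K₀` is surjective -/
theorem exists_trace {τ : K ≃+* K} (hinv : ∀ a, τ (τ a) = a) {ε : K} (hε : τ ε ≠ ε) :
    ∀ d ∈ K0 τ, ∃ x, x + τ x = d := by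
  have h1 : ∃ z, z + τ z ≠ 0 := by
    by_contra hcon
    push Not at hcon
    have e1 := hcon 1
    rw [map_one] at e1
    have e2 := hcon ε
    apply hε
    have e3 : ε + ε = (1 + 1) * ε := by ring
    rw [e1, zero_mul] at e3
    have e4 : ε + τ ε = ε + ε := by rw [e2, e3]
    exact add_left_cancel e4
  obtain ⟨z, hz⟩ := h1
  intro d hd
  refine ⟨d * z / (z + τ z), ?_⟩
  have h2 : τ (z + τ z) = z + τ z := by rw [map_add, hinv, add_comm]
  rw [map_div₀, map_mul, h2, mem_K0.1 hd, ← add_div, ← mul_add, mul_div_assoc, div_self hz, mul_one]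

theorem exists_isotropic' [Finite K] [Module.Finite K V] (hU : b.IsU) (hn : 3 ≤ Module.finrank K V) :
    ∃ e : V, e ≠ 0 ∧ b.B e e = 0 := by
  by_cases h2 : (2 : K) ≠ 0
  · exact exists_isotropic hU h2 hn
  push Not at h2
  by_contra hcon
  push Not at hcon
  obtain ⟨v1, h1, -⟩ := exists_perp b (k := 0) (fun i => i.elim0) (by omega)
  obtain ⟨v2, h2', h21⟩ := exists_perp b ![v1] (by omega)
  have e21 : b.B v2 v1 = 0 := h21 0
  have e12 := B_symm e21
  let d1 : K0 b.τ := ⟨b.B v1 v1, herm_mem hU v1⟩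
  let d2 : K0 b.τ := ⟨b.B v2 v2, herm_mem hU v2⟩
  have hd1 : d1 ≠ 0 := fun h => hcon v1 h1 (congrArg Subtype.val h)
  have hchar : ringChar (K0 b.τ) = 2 := by
    have h3 : ((2 : ℕ) : K0 b.τ) = 0 := Subtype.ext (by push_cast; exact h2)
    have h4 := (ringChar.spec (K0 b.τ) 2).1 h3
    rcases (Nat.dvd_prime Nat.prime_two).1 h4 with h5 | h5
    · exfalso
      have h6 : ((1 : ℕ) : K0 b.τ) = 0 := by rw [← h5]; exact ringChar.Nat.cast_ringChar
      rw [Nat.cast_one] at h6
      exact one_ne_zero h6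
    · exact h5
  have : Finite (K0 b.τ) := Subtype.finite
  obtain ⟨x, hx⟩ := FiniteField.isSquare_of_char_two hchar (-(d2 / d1))
  have hx' : d1 * (x * x) + d2 = 0 := by
    rw [← hx]
    field_simp
    ring
  have hxy' : b.B v1 v1 * ((x : K) * x) + b.B v2 v2 = 0 := by
    have := congrArg Subtype.val hx'
    push_cast at this
    exact this
  refine hcon ((x : K) • v1 + v2) ?_ ?_
  · intro h
    have h4 : b.B ((x : K) • v1 + v2) v2 = 0 := by rw [h, B_zero_left]
    rw [b.add_left, b.smul_left, e12, mul_zero, zero_add] at h4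
    exact hcon v2 h2' h4
  · have hx : b.τ (x : K) = x := x.2
    simp only [b.add_left, b.add_right, b.smul_left, b.smul_right, hx, e12, e21]
    linear_combination hxy'

theorem exists_hyp' [Finite K] [Module.Finite K V] (hU : b.IsU) (hn : 3 ≤ Module.finrank K V) :
    ∃ e f : V, b.B e e = 0 ∧ b.B f f = 0 ∧ b.B e f = 1 ∧ b.B f e = 1 := by
  obtain ⟨e, he0, hee⟩ := exists_isotropic' hU hn
  obtain ⟨u, hu⟩ := exists_right (b := b) he0
  obtain ⟨u', hu1⟩ : ∃ u', b.B u' e = 1 := ⟨(b.B u e)⁻¹ • u, by rw [b.smul_left, inv_mul_cancel₀ hu]⟩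
  have hu2 : b.B e u' = 1 := by rw [hU.2 u' e, hu1, map_one]
  obtain ⟨ε, hε⟩ := hU.1
  obtain ⟨t, ht⟩ := exists_trace b.invol hε _ (herm_mem hU u')
  refine ⟨e, u' - t • e, hee, ?_, ?_, ?_⟩
  · rw [B_sub_left, B_sub_right, B_sub_right, b.smul_left, b.smul_left, b.smul_right, b.smul_right, hu1, hu2, hee]
    linear_combination -ht
  · rw [B_sub_right, b.smul_right, hee, hu2, mul_zero, sub_zero]
  · rw [B_sub_left, b.smul_left, hee, hu1, mul_zero, sub_zero]

/-- pairwise non-proportional isotropic vectors, all characteristics -/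
theorem exists_family' [Finite K] [Module.Finite K V] (hU : b.IsU) (hn : 3 ≤ Module.finrank K V) :
    ∃ X : Set V, (∀ w ∈ X, w ≠ 0 ∧ b.B w w = 0) ∧
      (∀ w ∈ X, ∀ w' ∈ X, ∀ l : K, w' = l • w → w' = w) ∧
      Nat.card X * Nat.card K ^ 2 = Nat.card V * Nat.card (K0 b.τ) := by
  obtain ⟨e, f, hee, hff, hef, hfe⟩ := exists_hyp' hU hn
  obtain ⟨ε, hε⟩ := hU.1
  have hfinV : Finite V := Module.finite_of_finite K
  set δ : K := ε - b.τ ε with hδ
  have hδ0 : δ ≠ 0 := fun h => hε (sub_eq_zero.1 h).symm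
  have hτδ : b.τ δ = -δ := by rw [hδ, map_sub, b.invol]; ring
  have htr := fun v : V => exists_trace b.invol hε _ (herm_mem hU v)
  choose tr htr using htr
  -- the orthogonal complement of `e, f`
  let V' : Submodule K V :=
    { carrier := {v | b.B v e = 0 ∧ b.B v f = 0}
      add_mem' := fun {v w} hv hw => ⟨by rw [b.add_left, hv.1, hw.1, add_zero], by rw [b.add_left, hv.2, hw.2, add_zero]⟩
      zero_mem' := ⟨B_zero_left e, B_zero_left f⟩
      smul_mem' := fun a v hv => ⟨by rw [b.smul_left, hv.1, mul_zero], by rw [b.smul_left, hv.2, mul_zero]⟩ }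
  have hV'e : ∀ v : V', b.B (v : V) e = 0 := fun v => v.2.1
  have hV'f : ∀ v : V', b.B (v : V) f = 0 := fun v => v.2.2
  have hcardV : Nat.card V = Nat.card K * Nat.card K * Nat.card V' := by
    rw [← Nat.card_prod, ← Nat.card_prod]
    refine Nat.card_congr (Equiv.ofBijective
      (fun v : V => ((b.B v f, b.B v e), (⟨v - b.B v f • e - b.B v e • f, ?_, ?_⟩ : V'))) ⟨?_, ?_⟩)
    · rw [B_sub_left, B_sub_left, b.smul_left, b.smul_left, hee, hfe]; ring
    · rw [B_sub_left, B_sub_left, b.smul_left, b.smul_left, hff, hef]; ring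
    · intro v w h
      have h1 := congrArg (fun p => p.1.1) h
      have h2 := congrArg (fun p => p.1.2) h
      have h3 := congrArg (fun p => ((p.2 : V') : V)) h
      simp only at h1 h2 h3
      rw [h1, h2] at h3
      exact sub_left_injective (sub_left_injective h3)
    · rintro ⟨⟨x, y⟩, v⟩
      refine ⟨x • e + y • f + v, ?_⟩
      have h1 : b.B (x • e + y • f + v) f = x := by
        rw [b.add_left, b.add_left, b.smul_left, b.smul_left, hff, hef, hV'f]; ring
      have h2 : b.B (x • e + y • f + v) e = y := by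
        rw [b.add_left, b.add_left, b.smul_left, b.smul_left, hee, hfe, hV'e]; ring
      refine Prod.ext (Prod.ext h1 h2) (Subtype.ext ?_)
      show x • e + y • f + v - b.B (x • e + y • f + v) f • e - b.B (x • e + y • f + v) e • f = v
      rw [h1, h2]
      abel
  let Ψ : V' × K0 b.τ → V := fun p => e + (-(tr p.1) + p.2 * δ) • f + p.1
  have hΨf : ∀ p, b.B (Ψ p) f = 1 := by
    intro p
    show b.B (e + (-(tr p.1) + p.2 * δ) • f + p.1) f = 1
    rw [b.add_left, b.add_left, b.smul_left, hff, hef, hV'f]; ring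
  have hΨe : ∀ p, b.B (Ψ p) e = -(tr p.1) + p.2 * δ := by
    intro p
    show b.B (e + (-(tr p.1) + p.2 * δ) • f + p.1) e = _
    rw [b.add_left, b.add_left, b.smul_left, hee, hfe, hV'e]; ring
  have hinj : Function.Injective Ψ := by
    rintro p q h
    have h1 : -(tr p.1) + p.2 * δ = -(tr q.1) + q.2 * δ := by
      rw [← hΨe, ← hΨe, h]
    have h2 : (p.1 : V) = q.1 := by
      have h3 : e + (-(tr p.1) + p.2 * δ) • f + p.1 = e + (-(tr q.1) + q.2 * δ) • f + q.1 := h
      rw [h1] at h3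
      exact add_left_cancel h3
    have h4 : p.1 = q.1 := Subtype.ext h2
    rw [h4] at h1
    have h5 := mul_right_cancel₀ hδ0 (add_left_cancel h1)
    exact Prod.ext h4 (Subtype.ext h5)
  refine ⟨Set.range Ψ, ?_, ?_, ?_⟩
  · rintro _ ⟨p, rfl⟩
    refine ⟨fun h => ?_, ?_⟩
    · have h1 := hΨf p
      rw [h, B_zero_left] at h1
      exact zero_ne_one h1
    · have h1 := hΨe p
      have h3 : b.B e (p.1 : V) = 0 := B_symm (hV'e p.1)
      have h4 : b.B f (p.1 : V) = 0 := B_symm (hV'f p.1)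
      have h5 : b.B (Ψ p) (p.1 : V) = b.B (p.1 : V) p.1 := by
        show b.B (e + (-(tr p.1) + p.2 * δ) • f + p.1) (p.1 : V) = _
        rw [b.add_left, b.add_left, b.smul_left, h3, h4]; ring
      have h6 : b.B (Ψ p) (Ψ p) = b.B (Ψ p) e + b.τ (-(tr p.1) + p.2 * δ) * b.B (Ψ p) f +
          b.B (Ψ p) (p.1 : V) := by
        conv_lhs => rw [show Ψ p = e + (-(tr p.1) + p.2 * δ) • f + p.1 from rfl]
        rw [b.add_right, b.add_right, b.smul_right]
      rw [h6, h1, hΨf, h5, map_add, map_mul, map_neg, hτδ]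
      have h7 : b.τ ((p.2 : K0 b.τ) : K) = p.2 := p.2.2
      rw [h7]
      linear_combination -(htr p.1)
  · rintro _ ⟨p, rfl⟩ _ ⟨q, rfl⟩ l h
    have h1 := hΨf q
    rw [h, b.smul_left, hΨf, mul_one] at h1
    rw [h, h1, one_smul]
  · have h1 : Nat.card (Set.range Ψ) = Nat.card V' * Nat.card (K0 b.τ) := by
      rw [← Nat.card_prod]
      exact Nat.card_congr (Equiv.ofInjective Ψ hinj).symm
    rw [h1, hcardV]
    ring

end Cfsg.Agent.H214.FC
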