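import Cfsg.Agent.H214.FC.C6Fix
import Cfsg.Agent.H214.FC.IsoU
import Cfsg.Agent.H786.FC.Parts

/-!
# S5764 [B-C6x]: extraspecial type normalizers, unitary `n = 7, n ≥ 9`, symplectic `n ≥ 16` (helper214)
-/

set_option autoImplicit false

namespace Cfsg.Agent.H214.FC

open Cfsg.Agent.H198.FC Cfsg.Agent.H277.FC Cfsg.Agent.H706.FC Cfsg.Agent.H563.FC Cfsg.Agent.H786.FC

universe u v

section choose

variable {K : Type u} [Field K] {V : Type v} [AddCommGroup V] [Module K V]
  [Finite K] [Module.Finite K V] {S A : Subgroup (Equiv.Perm (R K V))} {r a : ℕ}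

/-- choice of a vector in `X` which is not bad -/
theorem exists_good (h : C6Data S A r a) {k : ℕ} (hk : Module.finrank K V = r * k) (X : Set V)
    (hX0 : ∀ w ∈ X, w ≠ 0) (P : V → Prop) {m : ℕ} (hm : Nat.card {w : V // w ∈ X ∧ P w} ≤ m)
    (hcard : (Module.finrank K V ^ 2 - 1) * (r * Nat.card K ^ k) + m < Nat.card X) :
    ∃ w ∈ X, (∀ y ∈ Hat A, (∃ l : K, (y : R K V) w = l • w) → Scal y) ∧ ¬ P w := by
  classical
  have hfinV : Finite V := Module.finite_of_finite K
  by_contra hcon
  push Not at hcon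
  have key : ∀ w : X, (∃ y ∈ Hat A, ¬ Scal y ∧ ∃ l : K, (y : R K V) w = l • (w : V)) ∨ P w := by
    intro w
    by_cases hw : ∀ y ∈ Hat A, (∃ l : K, (y : R K V) w = l • (w : V)) → Scal y
    · exact Or.inr (hcon w w.2 hw)
    · push Not at hw
      obtain ⟨y, h1, ⟨l, h2⟩, h3⟩ := hw
      exact Or.inl ⟨y, h1, h3, l, h2⟩
  let Φ : X → {w : V // w ≠ 0 ∧ ∃ y ∈ Hat A, ¬ Scal y ∧ ∃ l : K, (y : R K V) w = l • w} ⊕
      {w : V // w ∈ X ∧ P w} := fun w =>
    if hw : ∃ y ∈ Hat A, ¬ Scal y ∧ ∃ l : K, (y : R K V) w = l • (w : V) then Sum.inl ⟨w, hX0 w w.2, hw⟩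
    else Sum.inr ⟨w, w.2, (key w).resolve_left hw⟩
  have hinj : Function.Injective Φ := by
    intro w w' h
    simp only [Φ] at h
    split_ifs at h with h1 h2 h2
    · have h5 := Sum.inl.inj h
      rw [Subtype.mk.injEq] at h5
      exact Subtype.ext h5
    · have h5 := Sum.inr.inj h
      rw [Subtype.mk.injEq] at h5
      exact Subtype.ext h5
  have h2 := Nat.card_le_card_of_injective Φ hinj
  rw [Nat.card_sum] at h2
  have h3 := card_bad h hk
  omega

end choose

/-! ### symplectic -/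

theorem pow3_ge {k : ℕ} (hk : 8 ≤ k) : 8 * k ^ 2 ≤ 3 ^ k := by
  induction k, hk using Nat.le_induction with
  | base => norm_num
  | succ k hk ih =>
    rw [pow_succ 3 k]
    nlinarith

theorem stmtBC6S16 : StmtBC6On.{u, v} false fun n => 16 ≤ n := by
  intro K _ _ V _ _ _ b hb hbig hn S hS hsol A r a h
  have hn : 16 ≤ Module.finrank K V := hn
  have hSp : b.IsSp := hb.2 rfl
  have hfinV : Finite V := Module.finite_of_finite K
  have hnt := nontrivial_of h
  have hev := even_finrank b hSp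
  have hr2 : r = 2 := by
    have h2 : (2 : ℕ) ∣ r ^ a := by rw [← h.2.2.1]; exact hev.two_dvd
    exact ((Nat.prime_dvd_prime_iff_eq Nat.prime_two h.1).1 (Nat.prime_two.dvd_of_dvd_pow h2)).symm
  obtain ⟨k, hk⟩ := hev.two_dvd
  have hk' : Module.finrank K V = r * k := by rw [hr2]; exact hk
  -- `|K| ≥ 3`
  have hq : 3 ≤ Nat.card K := by
    by_contra hcon
    have h1 : 1 < Nat.card K := Finite.one_lt_card
    have h2 : Nat.card K = 2 := by omega
    -- a nontrivial commutator gives `-1 ≠ 1`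
    have hne : ∃ f : A, f ≠ 1 := by
      by_contra h0
      push Not at h0
      have h3 : Nat.card A = 1 := by
        have : Subsingleton A := ⟨fun x y => by rw [h0 x, h0 y]⟩
        exact Nat.card_unique
      rw [h.2.2.2.2.2.1] at h3
      have h4 := Nat.one_lt_pow (n := 2 * a) (by have := h.2.1; omega) h.1.one_lt
      omega
    obtain ⟨f, hf⟩ := hne
    obtain ⟨y, hy⟩ := h.2.2.2.2.1 f.2
    have hyH : y ∈ Hat A := by rw [mem_Hat, hy]; exact f.2
    have hys : ¬ Scal y := fun hsc => hf (Subtype.ext (by rw [← hy, cj_of_scal hsc]; rfl))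
    obtain ⟨-, -, c, hc1, hcr, -⟩ := exists_conj h hyH hys
    have hc0 : c ≠ 0 := by
      rintro rfl
      rw [zero_pow h.1.ne_zero] at hcr
      exact zero_ne_one hcr
    have := Fintype.ofFinite K
    rw [Nat.card_eq_fintype_card] at h2
    classical
    have h5 : ({0, 1, c} : Finset K).card = 3 := by
      rw [Finset.card_eq_three]
      exact ⟨0, 1, c, zero_ne_one, hc0.symm, hc1.symm, rfl⟩
    have h6 := Finset.card_le_univ ({0, 1, c} : Finset K)
    omega
  have hcardV : Nat.card V = Nat.card K ^ Module.finrank K V := Module.natCard_eq_pow_finrank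
  -- the nonzero vectors
  have hX : Nat.card {w : V | w ≠ 0} = Nat.card K ^ Module.finrank K V - 1 := by
    classical
    have := Fintype.ofFinite V
    rw [← hcardV]
    change Nat.card {w : V // w ≠ 0} = _
    rw [Nat.card_eq_fintype_card, Nat.card_eq_fintype_card, Fintype.card_subtype_compl,
      Fintype.card_subtype_eq]
  obtain ⟨w, hw0, hw, -⟩ := exists_good h hk' {w : V | w ≠ 0} (fun w hw => hw) (fun _ => False) (m := 0)
    (by simp) (by
      rw [hX, add_zero, hr2]
      have h1 := pow3_ge (k := k) (by omega)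
      have h2 : 3 ^ k ≤ Nat.card K ^ k := Nat.pow_le_pow_left hq k
      have h3 : Nat.card K ^ Module.finrank K V = Nat.card K ^ k * Nat.card K ^ k := by
        rw [hk, two_mul, pow_add]
      rw [h3, hk]
      set Q := Nat.card K ^ k with hQ
      have h4 : ((2 * k) ^ 2 - 1) * (2 * Q) + (2 * Q) = (2 * k) ^ 2 * (2 * Q) := by
        have h5 : 1 ≤ (2 * k) ^ 2 := Nat.one_le_pow _ _ (by omega)
        obtain ⟨t, ht⟩ := Nat.exists_eq_add_of_le h5
        rw [ht]
        have : 1 + t - 1 = t := by omega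
        rw [this]
        ring
      have h6 : (2 * k) ^ 2 * (2 * Q) ≤ Q * Q := by
        calc (2 * k) ^ 2 * (2 * Q) = (8 * k ^ 2) * Q := by ring
          _ ≤ Q * Q := Nat.mul_le_mul_right _ (h1.trans h2)
      have h7 : 2 ≤ Q := by
        have : 8 * k ^ 2 ≤ Q := h1.trans h2
        nlinarith
      omega)
  refine five_of_good hS h hsol hw0 (hSp.2 w) hw (fun f _ _ _ ⟨t, ht⟩ => absurd (hSp.1 t) ht) ?_
  intro c hN f hf _ hx
  exact fixB hS h (Or.inr (by omega)) hN hf hx

/-! ### unitary -/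

section unitary

variable {K : Type u} [Field K] [Finite K] {V : Type v} [AddCommGroup V] [Module K V]
  [Module.Finite K V] {b : Cl K V} {S A : Subgroup (Equiv.Perm (R K V))} {r a : ℕ}

/-- the commutators of `Hat A` have norm 1 -/
theorem norm_comm (hU : b.IsU) (hS : S ≤ RB b) (h : C6Data S A r a) {x y : (R K V)ˣ} (hx : x ∈ Hat A)
    (hy : y ∈ Hat A) {c : K} (hc : (x : R K V) * y = c • ((y : R K V) * x)) : c * b.τ c = 1 := by
  have hnt := nontrivial_of h
  -- a lift of an element of `RB b` is a similitude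
  have hsim : ∀ z ∈ Hat A, ∃ μ : K, μ ≠ 0 ∧ ∀ v w, b.B ((z : R K V) v) ((z : R K V) w) = μ * b.B v w := by
    intro z hz
    have hzB : cj K V z ∈ RB b := hS (h.2.2.2.1 hz)
    -- the adjoint of `cj z (tw)`
    obtain ⟨w₀, hw₀⟩ := exists_ne (0 : V)
    obtain ⟨v₀, hv₀⟩ := exists_right (b := b) hw₀
    have key : ∀ u u' v w, b.B v u * b.B ((z : R K V) u') ((z : R K V) w) =
        b.B u' w * b.B ((z : R K V) v) ((z : R K V) u) := by
      intro u u' v w
      let X : R K V :=
        { toFun := fun v => b.B v u • u'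
          map_add' := fun v w => by rw [b.add_left, add_smul]
          map_smul' := fun a v => by rw [b.smul_left, mul_smul, RingHom.id_apply] }
      let Y : R K V :=
        { toFun := fun v => b.τ (b.B u' v) • u
          map_add' := fun v w => by rw [b.add_right, map_add, add_smul]
          map_smul' := fun a v => by
            rw [b.smul_right, map_mul, b.invol, mul_smul, RingHom.id_apply] }
      have hXY : b.Adj X Y := by
        intro v w
        show b.B (b.B v u • u') w = b.B v (b.τ (b.B u' w) • u)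
        rw [b.smul_left, b.smul_right, b.invol, mul_comm]
      have h1 := (hzB.2 X Y).1 hXY ((z : R K V) v) ((z : R K V) w)
      rw [cj_apply, cj_apply] at h1
      have e1 : ∀ (W : R K V) (v : V), ((z : R K V) * W * ((z⁻¹ : (R K V)ˣ) : R K V)) ((z : R K V) v) =
          (z : R K V) (W v) := by
        intro W v
        rw [← Module.End.mul_apply, mul_assoc, mul_assoc, Units.inv_mul, mul_one]
        rfl
      rw [e1, e1] at h1
      have h2 : b.B ((z : R K V) (b.B v u • u')) ((z : R K V) w) =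
        b.B ((z : R K V) v) ((z : R K V) (b.τ (b.B u' w) • u)) := h1
      rw [map_smul, map_smul, b.smul_left, b.smul_right, b.invol] at h2
      exact h2
    refine ⟨b.B ((z : R K V) v₀) ((z : R K V) w₀) / b.B v₀ w₀, ?_, fun v w => ?_⟩
    · intro h0
      have h1 : b.B ((z : R K V) v₀) ((z : R K V) w₀) = 0 := by
        rcases div_eq_zero_iff.1 h0 with h2 | h2
        · exact h2
        · exact absurd h2 hv₀
      have h2 : ∀ u' w, b.B ((z : R K V) u') ((z : R K V) w) = 0 := by
        intro u' w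
        have h3 := key w₀ u' v₀ w
        rw [h1, mul_zero] at h3
        rcases mul_eq_zero.1 h3 with h4 | h4
        · exact absurd h4 hv₀
        · exact h4
      apply hw₀
      have h3 : (z : R K V) w₀ = 0 := by
        apply nondeg_right (b := b)
        intro v
        have h4 := h2 (((z⁻¹ : (R K V)ˣ) : R K V) v) w₀
        rwa [← Module.End.mul_apply, Units.mul_inv, Module.End.one_apply] at h4
      have h4 : ((z⁻¹ : (R K V)ˣ) : R K V) ((z : R K V) w₀) = w₀ := by
        rw [← Module.End.mul_apply, Units.inv_mul, Module.End.one_apply]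
      rw [← h4, h3, map_zero]
    · have h1 := key w₀ v v₀ w
      field_simp
      rw [mul_comm] at h1
      rw [h1]
      ring
  obtain ⟨μ, hμ0, hμ⟩ := hsim x hx
  obtain ⟨ν, hν0, hν⟩ := hsim y hy
  obtain ⟨w₀, hw₀⟩ := exists_ne (0 : V)
  obtain ⟨v₀, hv₀⟩ := exists_right (b := b) hw₀
  have h1 : b.B (((x : R K V) * y) v₀) (((x : R K V) * y) w₀) = μ * (ν * b.B v₀ w₀) := by
    rw [Module.End.mul_apply, Module.End.mul_apply, hμ, hν]
  rw [hc, LinearMap.smul_apply, LinearMap.smul_apply, b.smul_left, b.smul_right, Module.End.mul_apply,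
    Module.End.mul_apply, hν, hμ] at h1
  have h2 : (c * b.τ c - 1) * (μ * ν * b.B v₀ w₀) = 0 := by linear_combination h1
  rcases mul_eq_zero.1 h2 with h3 | h3
  · exact sub_eq_zero.1 h3
  · exact absurd h3 (mul_ne_zero (mul_ne_zero hμ0 hν0) hv₀)

/-- `r` odd: no element of `C_S(A)` induces `τ` on `K` -/
theorem two_of_tau (hU : b.IsU) (hS : S ≤ RB b) (h : C6Data S A r a) {f : Equiv.Perm (R K V)} (hf : f ∈ RP K V)
    (hfc : ∀ c ∈ A, f * c = c * f) (hs : HasSig f b.τ) : r = 2 := by
  have hnt := nontrivial_of h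
  obtain ⟨g, hadd, hsm, hg⟩ := hs.semi hf
  -- a noncentral element
  have hne : ∃ f : A, f ≠ 1 := by
    by_contra h0
    push Not at h0
    have h3 : Nat.card A = 1 := by
      have : Subsingleton A := ⟨fun x y => by rw [h0 x, h0 y]⟩
      exact Nat.card_unique
    rw [h.2.2.2.2.2.1] at h3
    have h4 := Nat.one_lt_pow (n := 2 * a) (by have := h.2.1; omega) h.1.one_lt
    omega
  obtain ⟨f', hf'⟩ := hne
  obtain ⟨y, hy⟩ := h.2.2.2.2.1 f'.2
  have hyH : y ∈ Hat A := by rw [mem_Hat, hy]; exact f'.2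
  have hys : ¬ Scal y := fun hsc => hf' (Subtype.ext (by rw [← hy, cj_of_scal hsc]; rfl))
  obtain ⟨z, hzH, c, hc1, hcr, hc⟩ := exists_conj h hyH hys
  have hn := norm_comm hU hS h hyH hzH hc
  -- `f` multiplies the elements of `Hat A` by scalars
  have hfy : ∀ x ∈ Hat A, ∃ d : K, d ≠ 0 ∧ f x = d • (x : R K V) := by
    intro x hx
    have h1 := hfc _ hx
    rw [f_cj hf x] at h1
    have h2 : cj K V (fu hf x) = cj K V x := mul_right_cancel h1
    obtain ⟨d, hd0, hd⟩ := cj_eq h2
    exact ⟨d, hd0, hd⟩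
  obtain ⟨d, hd0, hd⟩ := hfy y hyH
  obtain ⟨d', hd'0, hd'⟩ := hfy z hzH
  have h1 := congrArg f hc
  rw [hf.2, hs.smul hf, hf.2, hd, hd', smul_mul_smul_comm, smul_mul_smul_comm, hc, smul_smul, smul_smul] at h1
  have h2 : (z : R K V) * y ≠ 0 := by rw [← Units.val_mul]; exact Units.ne_zero _
  have h3 : d * d' * c = b.τ c * (d' * d) := smul_left_injective K h2 h1
  have h4 : c = b.τ c := by
    have h5 : (d * d') * (c - b.τ c) = 0 := by linear_combination h3
    rcases mul_eq_zero.1 h5 with h6 | h6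
    · exact absurd h6 (mul_ne_zero hd0 hd'0)
    · exact sub_eq_zero.1 h6
  rw [← h4] at hn
  -- `c² = 1`, `c ≠ 1`, `c ^ r = 1`
  have h5 : c ^ 2 = 1 := by rw [sq]; exact hn
  have h6 : orderOf c ∣ 2 := orderOf_dvd_of_pow_eq_one h5
  have h7 : orderOf c ∣ r := orderOf_dvd_of_pow_eq_one hcr
  have h8 : orderOf c ≠ 1 := fun h9 => hc1 (orderOf_eq_one_iff.1 h9)
  rcases (Nat.dvd_prime h.1).1 h7 with h9 | h9
  · exact absurd h9 h8
  · rw [h9] at h6
    rcases (Nat.dvd_prime Nat.prime_two).1 h6 with h10 | h10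
    · exact absurd h10 h.1.ne_one
    · exact h10

/-- **(h2)** : the number of points fixed by an element with field automorphism `τ` -/
theorem card_tau (hU : b.IsU) (hS : S ≤ RB b) (h : C6Data S A r a) {X : Set V} (hX0 : ∀ w ∈ X, w ≠ 0)
    (hX : ∀ w ∈ X, ∀ w' ∈ X, ∀ l : K, w' = l • w → w' = w) {m : ℕ} (hm : Nat.card V ≤ m * m) :
    Nat.card {w : V // w ∈ X ∧ ∃ f ∈ S, (∀ c ∈ A, f * c = c * f) ∧ HasSig f b.τ ∧
      ∃ k : K, f (tw b 1 w) = k • tw b 1 w} ≤ Nat.card A * m := by
  classical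
  have hnt := nontrivial_of h
  have hfinV : Finite V := Module.finite_of_finite K
  have hfinR := finite_R (K := K) (V := V)
  let T := {f : Equiv.Perm (R K V) // f ∈ RP K V ∧ HasSig f b.τ ∧ ∀ c ∈ A, f * c = c * f}
  have := Fintype.ofFinite T
  have hT : Fintype.card T ≤ Nat.card A := by
    rw [← Nat.card_eq_fintype_card]
    exact card_sig_le h b.τ
  have hsemi : ∀ f : T, ∃ g : Equiv.Perm V, (∀ v w, g (v + w) = g v + g w) ∧
      (∀ (a : K) (v : V), g (a • v) = b.τ a • g v) ∧ ∀ (X : R K V) (v : V), f.1 X (g v) = g (X v) :=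
    fun f => f.2.2.1.semi f.2.1
  choose g hadd hsm hg using hsemi
  have key : ∀ w : {w : V // w ∈ X ∧ ∃ f ∈ S, (∀ c ∈ A, f * c = c * f) ∧ HasSig f b.τ ∧
      ∃ k : K, f (tw b 1 w) = k • tw b 1 w}, ∃ f : T, (w : V) ∈ X ∧ ∃ l : K, g f w = l • (w : V) := by
    rintro ⟨w, hwX, f, hf, hfc, hfs, k, hk⟩
    refine ⟨⟨f, (hS hf).1, hfs, hfc⟩, hwX, ?_⟩
    obtain ⟨v, hv⟩ := exists_right (b := b) (hX0 w hwX)
    have h1 := hg ⟨f, (hS hf).1, hfs, hfc⟩ (tw b 1 w) v
    rw [hk, LinearMap.smul_apply, tw_apply, tw_apply, one_mul, one_mul, smul_smul, hsm] at h1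
    refine ⟨(b.τ (b.B v w))⁻¹ * (k * b.B (g ⟨f, (hS hf).1, hfs, hfc⟩ v) w), ?_⟩
    rw [mul_smul, h1, smul_smul, inv_mul_cancel₀ (by simpa using hv), one_smul]
  choose F hF using key
  let Φ : {w : V // w ∈ X ∧ ∃ f ∈ S, (∀ c ∈ A, f * c = c * f) ∧ HasSig f b.τ ∧
      ∃ k : K, f (tw b 1 w) = k • tw b 1 w} → Σ f : T, {w : V // w ∈ X ∧ ∃ l : K, g f w = l • w} :=
    fun w => ⟨F w, ⟨w, hF w⟩⟩
  have hΦ : ∀ w, (((Φ w).2 : {w' : V // w' ∈ X ∧ ∃ l : K, g (Φ w).1 w' = l • w'}) : V) = w := fun _ => rfl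
  have hinj : Function.Injective Φ := by
    intro w w' hww
    apply Subtype.ext
    rw [← hΦ w, ← hΦ w', hww]
  have h2 := Nat.card_le_card_of_injective Φ hinj
  rw [Nat.card_sigma] at h2
  obtain ⟨t, ht⟩ := hU.1
  refine h2.trans ((Finset.sum_le_card_nsmul Finset.univ _ m fun f _ =>
    card_pts_le (hadd f) (hsm f) ht hX0 hX hm).trans ?_)
  rw [Finset.card_univ, smul_eq_mul]
  exact Nat.mul_le_mul_right _ hT

end unitary

/-! ### numerical lemmas -/

theorem pow2_cube {n : ℕ} (hn : 10 ≤ n) : n ^ 3 ≤ 2 ^ n := by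
  induction n, hn using Nat.le_induction with
  | base => norm_num
  | succ n hn ih =>
    rw [pow_succ 2 n]
    have h1 : 10 * n ^ 2 ≤ n ^ 3 := by rw [pow_succ n 2, mul_comm]; exact Nat.mul_le_mul_left _ hn
    nlinarith

theorem pow2_sq {n : ℕ} (hn : 13 ≤ n) : 3 * (n + 3) ^ 2 < 2 ^ n := by
  induction n, hn using Nat.le_induction with
  | base => norm_num
  | succ n hn ih =>
    rw [pow_succ 2 n]
    nlinarith

theorem stmtBC6U9 : StmtBC6On.{u, v} true fun n => n = 7 ∨ 9 ≤ n := by
  intro K _ _ V _ _ _ b hb hbig hn S hS hsol A r a h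
  have hn : Module.finrank K V = 7 ∨ 9 ≤ Module.finrank K V := hn
  have hU : b.IsU := hb.1 rfl
  have hfinV : Finite V := Module.finite_of_finite K
  have hnt := nontrivial_of h
  obtain ⟨ε, hε⟩ := hU.1
  obtain ⟨X, hX0, hX1, hXc⟩ := exists_family' hU (by omega)
  set n := Module.finrank K V with hndef
  set q := Nat.card (K0 b.τ) with hq
  have hKq : Nat.card K = q ^ 2 := card_K b.invol hε
  have hq2 : 2 ≤ q := Finite.one_lt_card
  have hV : Nat.card V = q ^ (2 * n) := by
    rw [Module.natCard_eq_pow_finrank (K := K), hKq, ← pow_mul]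
  have hXcard : Nat.card X = q ^ (2 * n - 3) := by
    rw [hKq, hV, ← pow_mul] at hXc
    have h1 : q ^ (2 * n) * q = q ^ (2 * n - 3) * q ^ (2 * 2) := by
      rw [← pow_succ, ← pow_add]
      congr 1
      omega
    rw [h1] at hXc
    exact Nat.eq_of_mul_eq_mul_right (pow_pos (by omega) _) hXc
  -- `n = r k`
  obtain ⟨k, hk⟩ : ∃ k, n = r * k := by
    refine ⟨r ^ (a - 1), ?_⟩
    rw [hndef, h.2.2.1, ← pow_succ']
    congr 1
    have := h.2.1
    omega
  have hA : Nat.card A = n ^ 2 := by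
    rw [h.2.2.2.2.2.1, hndef, h.2.2.1, ← pow_mul, mul_comm]
  let P : V → Prop := fun w => ∃ f ∈ S, (∀ c ∈ A, f * c = c * f) ∧ HasSig f b.τ ∧
      ∃ k : K, f (tw b 1 w) = k • tw b 1 w
  have hgood : ∃ w ∈ X, (∀ y ∈ Hat A, (∃ l : K, (y : R K V) w = l • w) → Scal y) ∧ ¬ P w := by
    by_cases hr2 : r = 2
    · have hP := card_tau hU hS h (fun w hw => (hX0 w hw).1) hX1 (m := q ^ n)
        (by rw [hV, ← pow_add, two_mul])
      refine exists_good h hk X (fun w hw => (hX0 w hw).1) P hP ?_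
      rw [hXcard, hKq, hA, hr2, ← pow_mul, ← hndef]
      have hn2 : n = 2 * k := by rw [hk, hr2]
      -- `n ≥ 16`
      have hn16 : 16 ≤ n := by
        have h1 : n = 2 ^ a := by rw [hndef, h.2.2.1, hr2]
        have h2 : 4 ≤ a := by
          by_contra hcon
          have h3 : a ≤ 3 := by omega
          have h4 : n ≤ 2 ^ 3 := by rw [h1]; exact Nat.pow_le_pow_right (by norm_num) h3
          rcases hn with h5 | h5
          · rw [h5] at hn2
            omega
          · omega
        rw [h1]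
        calc 16 = 2 ^ 4 := by norm_num
          _ ≤ 2 ^ a := Nat.pow_le_pow_right (by norm_num) h2
      have h1 := pow2_sq (n := n - 3) (by omega)
      have e1 : n - 3 + 3 = n := by omega
      rw [e1] at h1
      have h2 : 2 ^ (n - 3) ≤ q ^ (n - 3) := Nat.pow_le_pow_left hq2 _
      have h3 : q ^ (2 * n - 3) = q ^ (n - 3) * q ^ n := by
        rw [← pow_add]
        congr 1
        omega
      rw [h3, ← hn2]
      have h4 : 0 < q ^ n := pow_pos (by omega) _
      calc (n ^ 2 - 1) * (2 * q ^ n) + n ^ 2 * q ^ n ≤ n ^ 2 * (2 * q ^ n) + n ^ 2 * q ^ n :=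
            Nat.add_le_add_right (Nat.mul_le_mul_right _ (Nat.sub_le _ _)) _
        _ = 3 * n ^ 2 * q ^ n := by ring
        _ < q ^ (n - 3) * q ^ n := Nat.mul_lt_mul_of_pos_right (h1.trans_le h2) h4
    · have hP : Nat.card {w : V // w ∈ X ∧ P w} ≤ 0 := by
        have : IsEmpty {w : V // w ∈ X ∧ P w} := ⟨by
          rintro ⟨w, -, f, hf, hfc, hfs, -⟩
          exact hr2 (two_of_tau hU hS h (hS hf).1 hfc hfs)⟩
        rw [Nat.card_of_isEmpty]
      refine exists_good h hk X (fun w hw => (hX0 w hw).1) P hP ?_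
      rw [add_zero, hXcard, hKq, ← pow_mul, ← hndef]
      have hr3 : 3 ≤ r := by
        have := h.1.two_le
        omega
      have hk1 : 1 ≤ k := by
        rcases Nat.eq_zero_or_pos k with h0 | h0
        · rw [h0, mul_zero] at hk; omega
        · exact h0
      have h3k : 3 * k ≤ n := by rw [hk]; exact Nat.mul_le_mul_right _ hr3
      have hrn : r ≤ n := by rw [hk]; exact Nat.le_mul_of_pos_right _ hk1
      -- the exponent
      obtain ⟨e, he⟩ : ∃ e, 2 * n - 3 = e + 2 * k := ⟨2 * n - 3 - 2 * k, by omega⟩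
      have hmain : (n ^ 2 - 1) * r < q ^ e := by
        have h9 : ∀ e', e' ≤ e → 2 ^ e' ≤ q ^ e := fun e' h' =>
          (Nat.pow_le_pow_right (by norm_num) h').trans (Nat.pow_le_pow_left hq2 _)
        rcases hn with h7 | h9'
        · -- `n = 7`
          have hr7 : r = 7 := by
            have h1 : r ∣ 7 := ⟨k, by rw [← hk, h7]⟩
            rcases (Nat.dvd_prime (by norm_num : Nat.Prime 7)).1 h1 with h2 | h2
            · exact absurd h2 h.1.ne_one
            · exact h2
          have hk7 : k = 1 := by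
            rw [h7, hr7] at hk
            omega
          have h1 := h9 9 (by omega)
          rw [h7, hr7]
          calc (7 ^ 2 - 1) * 7 < 2 ^ 9 := by norm_num
            _ ≤ q ^ e := h1
        · rcases Nat.lt_or_ge n 10 with h10 | h10
          · -- `n = 9`
            have hn9 : n = 9 := by omega
            have hr' : r = 3 := by
              have h1 : r ∣ 9 := ⟨k, by rw [← hk, hn9]⟩
              have h2 : r ∣ 3 ^ 2 := h1
              exact (Nat.prime_dvd_prime_iff_eq h.1 Nat.prime_three).1 (h.1.dvd_of_dvd_pow h2)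
            have hk3 : k = 3 := by
              rw [hn9, hr'] at hk
              omega
            have h1 := h9 9 (by omega)
            rw [hn9, hr']
            calc (9 ^ 2 - 1) * 3 < 2 ^ 9 := by norm_num
              _ ≤ q ^ e := h1
          · have h1 := h9 n (by omega)
            have h2 := pow2_cube h10
            have h3 : (n ^ 2 - 1) * r ≤ (n ^ 2 - 1) * n := Nat.mul_le_mul_left _ hrn
            have h4 : (n ^ 2 - 1) * n < n ^ 3 := by
              have h5 : 1 ≤ n ^ 2 := Nat.one_le_pow _ _ (by omega)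
              calc (n ^ 2 - 1) * n < n ^ 2 * n := Nat.mul_lt_mul_of_pos_right (by omega) (by omega)
                _ = n ^ 3 := by ring
            omega
      rw [he, pow_add, ← mul_assoc]
      exact Nat.mul_lt_mul_of_pos_right hmain (pow_pos (by omega) _)
  obtain ⟨w, hwX, hw, hwP⟩ := hgood
  refine five_of_good hS h hsol (hX0 w hwX).1 (hX0 w hwX).2 hw ?_ ?_
  · intro f hf hfc hfs _ k hk
    exact hwP ⟨f, hf, hfc, hfs, k, hk⟩
  · intro c hN f hf _ hx
    exact fixB hS h hn hN hf hx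

end Cfsg.Agent.H214.FC
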