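import Cfsg.Agent.H563.FC.Spe
import Cfsg.Agent.H563.FC.Cnt

/-!
# S5764 [B-C6x]: extraspecial type normalizers, `n = 7` or `n ≥ 9` (helper214, proof of helper429, tools of helper563)

`fixB` : if `t = 1 + N` is a transvection and `f, t f t⁻¹ ∈ S` then `f N = N`.
`card_eig_le'` : the number of eigenvectors of an element with scalar `r`-th power.
-/

set_option autoImplicit false

namespace Cfsg.Agent.H214.FC

open Cfsg.Agent.H198.FC Cfsg.Agent.H277.FC Cfsg.Agent.H706.FC Cfsg.Agent.H563.FC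

universe u v

variable {K : Type u} [Field K] {V : Type v} [AddCommGroup V] [Module K V]

/-- **(h3)** -/
theorem fixB [Finite K] [Module.Finite K V] {b : Cl K V} {S A : Subgroup (Equiv.Perm (R K V))} {r a : ℕ}
    (hSb : S ≤ RB b) (h : C6Data S A r a) (hn : Module.finrank K V = 7 ∨ 9 ≤ Module.finrank K V)
    {N : R K V} {w : V} (hN : Nil b N w) {f : Equiv.Perm (R K V)} (hf : f ∈ S)
    (hx : cj K V (uN N hN.sq) * f * (cj K V (uN N hN.sq))⁻¹ ∈ S) : f N = N := by
  obtain ⟨φ, hφ0, hφ⟩ := hN.ex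
  have hfP := RB_le (hSb hf)
  obtain ⟨h', hh, hfh⟩ := stmtSN K V (by omega) f hfP
  obtain ⟨hadd, σ, hσ⟩ := hh
  have hfN : ∀ v, f N v = σ (φ (h'.symm v)) • h' w := by
    intro v
    obtain ⟨v', rfl⟩ := h'.surjective v
    rw [hfh, hφ, hσ, Equiv.symm_apply_apply]
  set t := uN N hN.sq with ht
  have hcS := cj_mem_of hfP hf hx
  have hR : LinearMap.range ((t * (fu hfP t)⁻¹ : (R K V)ˣ) - 1 : R K V) = LinearMap.range (N - f N) := by
    have h3 : ((t * (fu hfP t)⁻¹ : (R K V)ˣ) : R K V) - 1 = (N - f N) * ((fu hfP t)⁻¹ : (R K V)ˣ) := by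
      have h4 : N - f N = (t : R K V) - (fu hfP t : R K V) := by
        rw [fu_val, ht, uN_val, hfP.1, RP_map_one hfP]
        abel
      rw [h4, sub_mul, Units.mul_inv, Units.val_mul]
    rw [h3]
    ext v
    constructor
    · rintro ⟨u, rfl⟩
      exact ⟨_, rfl⟩
    · rintro ⟨u, rfl⟩
      refine ⟨(fu hfP t : R K V) u, ?_⟩
      rw [← Module.End.mul_apply, mul_assoc, Units.inv_mul, mul_one]
  have hg : ∀ c ∈ A, cj K V (t * (fu hfP t)⁻¹) * c * (cj K V (t * (fu hfP t)⁻¹))⁻¹ ∈ A :=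
    fun c hc => h.2.2.2.2.2.2.2.2.2.1 _ hcS _ hc
  have h1 := rank_two h hg (by
    rw [hR]
    refine finrank_range_le_two (w := w) (w' := h' w) fun v => ⟨φ v, - σ (φ (h'.symm v)), ?_⟩
    rw [LinearMap.sub_apply, hφ, hfN, neg_smul, sub_eq_add_neg]) hn
  have h2 : t = fu hfP t := mul_inv_eq_one.1 h1
  have h3 := congrArg Units.val h2
  rw [fu_val, ht, uN_val, hfP.1, RP_map_one hfP] at h3
  exact (add_left_cancel h3).symm

/-- the eigenvectors of an endomorphism with scalar `r`-th power -/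
theorem card_eig_le' [Finite K] [Module.Finite K V] (y : R K V) {r : ℕ} (hr : 0 < r) {c : K}
    (hc : y ^ r = c • (1 : R K V)) {k : ℕ}
    (hk : ∀ l : K, Module.finrank K (Module.End.eigenspace y l) ≤ k) :
    Nat.card {w : V // w ≠ 0 ∧ ∃ l : K, y w = l • w} ≤ r * Nat.card K ^ k := by
  classical
  have hfinV : Finite V := Module.finite_of_finite K
  have := Fintype.ofFinite K
  have hE : ∀ l : K, Nat.card (Module.End.eigenspace y l) ≤ Nat.card K ^ k := by
    intro l
    rw [Module.natCard_eq_pow_finrank (K := K)]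
    exact Nat.pow_le_pow_right Nat.card_pos (hk l)
  let L : Finset K := (Polynomial.nthRoots r c).toFinset
  have hL : L.card ≤ r := (Multiset.toFinset_card_le _).trans (Polynomial.card_nthRoots r c)
  have hpow : ∀ (w : V) (l : K), y w = l • w → ∀ i : ℕ, (y ^ i) w = l ^ i • w := by
    intro w l hl i
    induction i with
    | zero => rw [pow_zero, pow_zero, one_smul, Module.End.one_apply]
    | succ i ih => rw [pow_succ, Module.End.mul_apply, hl, map_smul, ih, smul_smul, pow_succ, mul_comm]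
  have hmem : ∀ (w : V) (l : K), w ≠ 0 → y w = l • w → l ∈ L := by
    intro w l hw hl
    rw [Multiset.mem_toFinset, Polynomial.mem_nthRoots hr]
    have h1 := hpow w l hl r
    rw [hc, LinearMap.smul_apply, Module.End.one_apply] at h1
    exact (smul_left_injective K hw h1).symm
  let Φ : {w : V // w ≠ 0 ∧ ∃ l : K, y w = l • w} → Σ l : L, Module.End.eigenspace y (l : K) := fun w =>
    ⟨⟨w.2.2.choose, hmem _ _ w.2.1 w.2.2.choose_spec⟩, ⟨w, by
      rw [Module.End.mem_eigenspace_iff]; exact w.2.2.choose_spec⟩⟩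
  have hΦ : ∀ w, (((Φ w).2 : Module.End.eigenspace y ((Φ w).1 : K)) : V) = w := fun _ => rfl
  have hinj : Function.Injective Φ := by
    intro w w' hww
    apply Subtype.ext
    rw [← hΦ w, ← hΦ w', hww]
  have h2 := Nat.card_le_card_of_injective Φ hinj
  rw [Nat.card_sigma] at h2
  refine h2.trans ((Finset.sum_le_card_nsmul Finset.univ
    (fun l : L => Nat.card (Module.End.eigenspace y (l : K))) (Nat.card K ^ k) fun l _ => hE l).trans ?_)
  rw [Finset.card_univ, Fintype.card_coe, smul_eq_mul]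
  exact Nat.mul_le_mul_right _ hL

section dat

variable [Finite K] [Module.Finite K V] {S A : Subgroup (Equiv.Perm (R K V))} {r a : ℕ}

/-- **(h1)** : the number of vectors which are eigenvectors of a non-scalar element of `Hat A` -/
theorem card_bad (h : C6Data S A r a) {k : ℕ} (hk : Module.finrank K V = r * k) :
    Nat.card {w : V // w ≠ 0 ∧ ∃ y ∈ Hat A, ¬ Scal y ∧ ∃ l : K, (y : R K V) w = l • w} ≤
      (Module.finrank K V ^ 2 - 1) * (r * Nat.card K ^ k) := by
  classical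
  have := nontrivial_of h
  have hfinV : Finite V := Module.finite_of_finite K
  have hfin : Finite A := Nat.finite_of_card_ne_zero (by
    rw [h.2.2.2.2.2.1]; exact pow_ne_zero _ h.1.ne_zero)
  have := Fintype.ofFinite A
  have hlift : ∀ f : A, ∃ x : (R K V)ˣ, cj K V x = f := fun f => h.2.2.2.2.1 f.2
  choose s hs using hlift
  let I := {f : A // f ≠ 1}
  have hI : Fintype.card I = Module.finrank K V ^ 2 - 1 := by
    have h1 : Fintype.card A = Module.finrank K V ^ 2 := by
      rw [← Nat.card_eq_fintype_card, h.2.2.2.2.2.1, h.2.2.1, ← pow_mul, mul_comm]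
    rw [← h1]
    simp only [I]
    rw [Fintype.card_subtype_compl, Fintype.card_subtype_eq]
  have hsH : ∀ f : A, s f ∈ Hat A := fun f => by rw [mem_Hat, hs]; exact f.2
  have hns : ∀ f : I, ¬ Scal (s f.1) := by
    intro f hf
    apply f.2
    apply Subtype.ext
    rw [← hs, cj_of_scal hf]
    rfl
  have key : ∀ w : {w : V // w ≠ 0 ∧ ∃ y ∈ Hat A, ¬ Scal y ∧ ∃ l : K, (y : R K V) w = l • w},
      ∃ f : I, ∃ l : K, (s f.1 : R K V) w = l • (w : V) := by
    rintro ⟨w, hw, y, hy, hys, l, hl⟩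
    refine ⟨⟨⟨cj K V y, hy⟩, fun h1 => hys (scal_of_cj (congrArg Subtype.val h1))⟩, ?_⟩
    obtain ⟨c, hc0, hc⟩ := cj_eq (x := y) (y := s ⟨cj K V y, hy⟩) (hs ⟨cj K V y, hy⟩).symm
    refine ⟨c⁻¹ * l, ?_⟩
    rw [hc, LinearMap.smul_apply] at hl
    rw [mul_smul, ← hl, smul_smul, inv_mul_cancel₀ hc0, one_smul]
  choose F hF using key
  let Φ : {w : V // w ≠ 0 ∧ ∃ y ∈ Hat A, ¬ Scal y ∧ ∃ l : K, (y : R K V) w = l • w} →
      Σ f : I, {w : V // w ≠ 0 ∧ ∃ l : K, (s f.1 : R K V) w = l • w} := fun w =>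
    ⟨F w, ⟨w, w.2.1, hF w⟩⟩
  have hΦ : ∀ w, (((Φ w).2 : {w' : V // w' ≠ 0 ∧ ∃ l : K, (s (Φ w).1.1 : R K V) w' = l • w'}) : V) = w :=
    fun _ => rfl
  have hinj : Function.Injective Φ := by
    intro w w' hww
    apply Subtype.ext
    rw [← hΦ w, ← hΦ w', hww]
  have h2 := Nat.card_le_card_of_injective Φ hinj
  rw [Nat.card_sigma] at h2
  refine h2.trans ((Finset.sum_le_card_nsmul _ _ (r * Nat.card K ^ k) fun f _ => ?_).trans ?_)
  · obtain ⟨c, hc⟩ := pow_scal h (hsH f.1)
    rw [Units.val_pow_eq_pow_val] at hc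
    refine card_eig_le' _ h.1.pos hc fun l => ?_
    have h3 := eig_le h (hsH f.1) (hns f) l
    rw [hk] at h3
    exact Nat.le_of_mul_le_mul_left h3 h.1.pos
  · rw [Finset.card_univ, hI, smul_eq_mul]

end dat

end Cfsg.Agent.H214.FC
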