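import Mathlib

/-!
# S5764: reflexive trace-valued forms (helper214)

`Frm F V` : a nondegenerate `(τ, ε)`-form (alternating and hermitian forms).  `opp` : for a totally isotropic subspace `R`
there is an isometry `x` with `x (x R) = R`, `x R ∩ R^⊥ = 0` and `x` is the identity on `(R + x R)^⊥`.
-/

set_option autoImplicit false

namespace Cfsg.Agent.H214.FC

universe u v

/-- a nondegenerate trace-valued reflexive form -/
structure Frm (F : Type u) [Field F] (V : Type v) [AddCommGroup V] [Module F V] where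
  B : V → V → F
  τ : F ≃+* F
  ε : F
  ττ : ∀ a, τ (τ a) = a
  ετ : ε * τ ε = 1
  add_left : ∀ u u' v, B (u + u') v = B u v + B u' v
  smul_left : ∀ (a : F) u v, B (a • u) v = a * B u v
  refl : ∀ u v, B v u = ε * τ (B u v)
  nondeg : ∀ u, (∀ v, B u v = 0) → u = 0
  trace : ∀ v, ∃ c, B v v = c + ε * τ c

namespace Frm

variable {F : Type u} [Field F] {V : Type v} [AddCommGroup V] [Module F V] (b : Frm F V)

theorem add_right (u v v' : V) : b.B u (v + v') = b.B u v + b.B u v' := by
  rw [b.refl (v + v') u, b.add_left, map_add, mul_add, ← b.refl, ← b.refl]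

theorem smul_right (a : F) (u v : V) : b.B u (a • v) = b.τ a * b.B u v := by
  rw [b.refl (a • v) u, b.smul_left, map_mul, b.refl v u]
  ring

theorem zero_left (v : V) : b.B 0 v = 0 := by
  have h := b.smul_left 0 0 v
  rwa [zero_smul, zero_mul] at h

theorem zero_right (v : V) : b.B v 0 = 0 := by
  have h := b.smul_right 0 v 0
  rwa [zero_smul, map_zero, zero_mul] at h

theorem neg_left (u v : V) : b.B (-u) v = - b.B u v := by
  have h := b.smul_left (-1) u v
  rwa [neg_one_smul, neg_one_mul] at h

theorem neg_right (u v : V) : b.B u (-v) = - b.B u v := by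
  have h := b.smul_right (-1) u v
  rwa [neg_one_smul, map_neg, map_one, neg_one_mul] at h

theorem sub_left (u u' v : V) : b.B (u - u') v = b.B u v - b.B u' v := by
  rw [sub_eq_add_neg, b.add_left, b.neg_left, sub_eq_add_neg]

theorem sub_right (u v v' : V) : b.B u (v - v') = b.B u v - b.B u v' := by
  rw [sub_eq_add_neg, b.add_right, b.neg_right, sub_eq_add_neg]

theorem ε_ne : b.ε ≠ 0 := fun h => by
  have h1 := b.ετ
  rw [h, zero_mul] at h1
  exact zero_ne_one h1

theorem zero_comm {u v : V} (h : b.B u v = 0) : b.B v u = 0 := by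
  rw [b.refl, h, map_zero, mul_zero]

theorem eq_of_right {u v : V} (h : ∀ w, b.B u w = b.B v w) : u = v := by
  have h1 := b.nondeg (u - v) fun w => by rw [b.sub_left, h w, sub_self]
  exact sub_eq_zero.1 h1

/-- semisimilitudes -/
def IsSemi (g : Equiv.Perm V) (φ : F ≃+* F) (l : F) : Prop :=
  (∀ u v, g (u + v) = g u + g v) ∧ (∀ (a : F) v, g (a • v) = φ a • g v) ∧
    ∀ u v, b.B (g u) (g v) = l * φ (b.B u v)

/-- isometries (automatically linear) -/
def Iso (g : Equiv.Perm V) : Prop := ∀ u v, b.B (g u) (g v) = b.B u v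

theorem iso_one : b.Iso 1 := fun _ _ => rfl

theorem Iso.mul {g h : Equiv.Perm V} (hg : b.Iso g) (hh : b.Iso h) : b.Iso (g * h) := fun u v => by
  rw [Equiv.Perm.mul_apply, Equiv.Perm.mul_apply, hg, hh]

omit [AddCommGroup V] in
theorem apply_inv (g : Equiv.Perm V) (v : V) : g (g⁻¹ v) = v := g.apply_symm_apply v

omit [AddCommGroup V] in
theorem inv_apply (g : Equiv.Perm V) (v : V) : g⁻¹ (g v) = v := g.symm_apply_apply v

theorem Iso.inv {g : Equiv.Perm V} (hg : b.Iso g) : b.Iso g⁻¹ := fun u v => by
  rw [← hg, apply_inv, apply_inv]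

theorem Iso.add {g : Equiv.Perm V} (hg : b.Iso g) (u v : V) : g (u + v) = g u + g v := by
  refine b.eq_of_right fun w => ?_
  rw [← apply_inv g w, b.add_left, hg, hg, hg, b.add_left]

theorem Iso.smul {g : Equiv.Perm V} (hg : b.Iso g) (a : F) (v : V) : g (a • v) = a • g v := by
  refine b.eq_of_right fun w => ?_
  rw [← apply_inv g w, b.smul_left, hg, hg, b.smul_left]

theorem Iso.isSemi {g : Equiv.Perm V} (hg : b.Iso g) : b.IsSemi g (RingEquiv.refl F) 1 :=
  ⟨hg.add, fun a v => hg.smul b a v, fun u v => by rw [one_mul]; exact hg u v⟩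

/-- any form preserving map of a finite space is an isometry -/
theorem exists_iso [Finite V] (x : V → V) (hx : ∀ u v, b.B (x u) (x v) = b.B u v) :
    ∃ g : Equiv.Perm V, (∀ v, g v = x v) ∧ b.Iso g := by
  have hinj : Function.Injective x := fun u v h => b.eq_of_right fun w => by rw [← hx u w, ← hx v w, h]
  exact ⟨Equiv.ofBijective x (Finite.injective_iff_bijective.1 hinj), fun _ => rfl, hx⟩

/-- the orthogonal space -/
def perp (R : Submodule F V) : Submodule F V where
  carrier := {v | ∀ r ∈ R, b.B v r = 0}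
  add_mem' := fun {u v} hu hv r hr => by rw [b.add_left, hu r hr, hv r hr, add_zero]
  zero_mem' := fun r _ => b.zero_left r
  smul_mem' := fun a v hv r hr => by rw [b.smul_left, hv r hr, mul_zero]

theorem mem_perp {R : Submodule F V} {v : V} : v ∈ b.perp R ↔ ∀ r ∈ R, b.B v r = 0 := Iff.rfl

/-- the restriction to a nondegenerate subspace -/
def restr (C : Submodule F V) (h : ∀ w ∈ C, (∀ w' ∈ C, b.B w w' = 0) → w = 0) : Frm F C where
  B := fun u v => b.B u v
  τ := b.τ
  ε := b.ε
  ττ := b.ττ
  ετ := b.ετ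
  add_left := fun u u' v => b.add_left u u' v
  smul_left := fun a u v => b.smul_left a u v
  refl := fun u v => b.refl u v
  nondeg := fun u hu => Subtype.ext (h u u.2 fun w' hw' => hu ⟨w', hw'⟩)
  trace := fun v => b.trace v

/-- an isotropic partner -/
theorem exists_partner {e : V} (he : e ≠ 0) (hee : b.B e e = 0) :
    ∃ e', b.B e e' = 1 ∧ b.B e' e' = 0 := by
  obtain ⟨u', h1⟩ : ∃ u', b.B e u' = 1 := by
    obtain ⟨u, hu⟩ : ∃ u, b.B e u ≠ 0 := by
      by_contra h
      push Not at h
      exact he (b.nondeg e h)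
    exact ⟨b.τ (b.B e u)⁻¹ • u, by rw [b.smul_right, b.ττ, inv_mul_cancel₀ hu]⟩
  have h2 : b.B u' e = b.ε := by rw [b.refl e u', h1, map_one, mul_one]
  obtain ⟨c, hc⟩ := b.trace u'
  refine ⟨u' - c • e, ?_, ?_⟩
  · rw [b.sub_right, b.smul_right, hee, h1, mul_zero, sub_zero]
  · simp only [b.sub_left, b.sub_right, b.smul_left, b.smul_right, hee, h1, h2, hc]
    ring

section hyp

variable {e e' : V} (hee : b.B e e = 0) (hee' : b.B e e' = 1) (he'e' : b.B e' e' = 0)

theorem swap_hyp {e e' : V} (hee' : b.B e e' = 1) : b.B e' e = b.ε := by rw [b.refl e e', hee', map_one, mul_one]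

/-- the orthogonal space of a hyperbolic pair -/
def hperp (e e' : V) : Submodule F V where
  carrier := {v | b.B v e = 0 ∧ b.B v e' = 0}
  add_mem' := fun {u v} hu hv => ⟨by rw [b.add_left, hu.1, hv.1, add_zero], by rw [b.add_left, hu.2, hv.2, add_zero]⟩
  zero_mem' := ⟨b.zero_left _, b.zero_left _⟩
  smul_mem' := fun a v hv => ⟨by rw [b.smul_left, hv.1, mul_zero], by rw [b.smul_left, hv.2, mul_zero]⟩

/-- projection onto the orthogonal space of a hyperbolic pair -/
def pr (e e' v : V) : V := v - b.B v e' • e - (b.τ b.ε * b.B v e) • e'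

include hee hee' he'e' in
theorem pr_mem (v : V) : b.pr e e' v ∈ b.hperp e e' := by
  have h1 := b.swap_hyp hee'
  refine ⟨?_, ?_⟩
  · rw [pr, b.sub_left, b.sub_left, b.smul_left, b.smul_left, hee, h1]
    linear_combination (-b.B v e) * b.ετ
  · rw [pr, b.sub_left, b.sub_left, b.smul_left, b.smul_left, hee', he'e']
    ring

theorem decomp (e e' v : V) : v = b.B v e' • e + (b.τ b.ε * b.B v e) • e' + b.pr e e' v := by
  rw [pr]
  abel

include hee hee' he'e' in
theorem B_decomp (u v : V) : b.B u v = b.B u e' * b.τ (b.τ b.ε * b.B v e) +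
    b.ε * (b.τ b.ε * b.B u e) * b.τ (b.B v e') + b.B (b.pr e e' u) (b.pr e e' v) := by
  have h1 := b.swap_hyp hee'
  have hu := b.pr_mem hee hee' he'e' u
  have hv := b.pr_mem hee hee' he'e' v
  conv_lhs => rw [b.decomp e e' u, b.decomp e e' v]
  simp only [b.add_left, b.add_right, b.smul_left, b.smul_right, hee, hee', he'e', h1, hu.1, hu.2, b.zero_comm hv.1,
    b.zero_comm hv.2]
  ring

include hee hee' he'e' in
theorem hperp_nondeg (w : V) (hw : w ∈ b.hperp e e') (h : ∀ w' ∈ b.hperp e e', b.B w w' = 0) : w = 0 := by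
  refine b.nondeg w fun v => ?_
  rw [b.decomp e e' v, b.add_right, b.add_right, b.smul_right, b.smul_right, hw.1, hw.2,
    h _ (b.pr_mem hee hee' he'e' v)]
  ring

end hyp

end Frm

/-- **the opposite of a totally isotropic subspace** -/
theorem opp {F : Type u} [Field F] (n : ℕ) : ∀ (V : Type v) [AddCommGroup V] [Module F V] [Finite V] (b : Frm F V)
    (R : Submodule F V), Nat.card V ≤ n → (∀ r ∈ R, ∀ s ∈ R, b.B r s = 0) →
    ∃ x : Equiv.Perm V, b.Iso x ∧ (∀ r ∈ R, (∀ s ∈ R, b.B (x r) s = 0) → x r = 0) ∧ (∀ r ∈ R, x (x r) ∈ R) ∧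
      ∀ w, (∀ r ∈ R, b.B w r = 0) → (∀ r ∈ R, b.B w (x r) = 0) → x w = w := by
  induction n with
  | zero =>
      intro V _ _ _ b R hn
      have := Nat.card_pos (α := V)
      omega
  | succ n ih =>
      intro V _ _ _ b R hn hR
      by_cases hR0 : ∀ r ∈ R, r = 0
      · exact ⟨1, b.iso_one, fun r hr _ => hR0 r hr, fun r hr => hr, fun w _ _ => rfl⟩
      push Not at hR0
      obtain ⟨e, heR, he⟩ := hR0
      have hee := hR e heR e heR
      obtain ⟨e', hee', he'e'⟩ := b.exists_partner he hee
      have hnd := b.hperp_nondeg hee hee' he'e'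
      have heC : e ∉ b.hperp e e' := fun h => by
        have h1 := h.2
        rw [hee'] at h1
        exact one_ne_zero h1
      have hcard : Nat.card (b.hperp e e') ≤ n := by
        have h1 : Nat.card (b.hperp e e') < Nat.card V := by
          refine lt_of_le_of_ne (Nat.card_le_card_of_injective _ (Subtype.val_injective)) fun h => heC ?_
          have h2 := (Nat.bijective_iff_injective_and_card (Subtype.val : b.hperp e e' → V)).2
            ⟨Subtype.val_injective, h⟩
          obtain ⟨y, hy⟩ := h2.2 e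
          have h3 := y.2
          rw [hy] at h3
          exact h3
        omega
      obtain ⟨x₁, hx₁, i1, i2, i3⟩ := ih (b.hperp e e') (b.restr _ hnd) (R.comap (b.hperp e e').subtype) hcard
        (fun r hr s hs => hR _ hr _ hs)
      have prm := b.pr_mem hee hee' he'e'
      have h1 := b.swap_hyp hee'
      let f : V → V := fun v => b.B v e' • e' + b.B v e • e + (x₁ ⟨b.pr e e' v, prm v⟩ : V)
      have f_def : ∀ v, f v = b.B v e' • e' + b.B v e • e + (x₁ ⟨b.pr e e' v, prm v⟩ : V) := fun _ => rfl
      have hC : ∀ v, (x₁ ⟨b.pr e e' v, prm v⟩ : V) ∈ b.hperp e e' := fun v => (x₁ ⟨b.pr e e' v, prm v⟩).2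
      have hBf : ∀ u v, b.B (f u) (f v) = b.B u v := by
        intro u v
        rw [b.B_decomp hee hee' he'e' u v]
        have h2 : b.B (x₁ ⟨b.pr e e' u, prm u⟩ : V) (x₁ ⟨b.pr e e' v, prm v⟩ : V) =
            b.B (b.pr e e' u) (b.pr e e' v) := hx₁ _ _
        rw [← h2, f_def, f_def]
        have hu := hC u
        have hv := hC v
        simp only [b.add_left, b.add_right, b.smul_left, b.smul_right, hee, hee', he'e', h1, hu.1, hu.2,
          b.zero_comm hv.1, b.zero_comm hv.2, map_mul, b.ττ]
        linear_combination (-b.B u e * b.τ (b.B v e')) * b.ετ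
      obtain ⟨x, hxf, hx⟩ := b.exists_iso f hBf
      have pr0 : ∀ r ∈ R, b.pr e e' r = r - b.B r e' • e := by
        intro r hr
        rw [Frm.pr, hR r hr e heR, mul_zero, zero_smul, sub_zero]
      have prR : ∀ r ∈ R, b.pr e e' r ∈ R := by
        intro r hr
        rw [pr0 r hr]
        exact R.sub_mem hr (R.smul_mem _ heR)
      have xr : ∀ r ∈ R, x r = b.B r e' • e' + (x₁ ⟨b.pr e e' r, prm r⟩ : V) := by
        intro r hr
        rw [hxf, f_def, hR r hr e heR, zero_smul, add_zero]
      have xC : ∀ w (hw : w ∈ b.hperp e e'), x w = (x₁ ⟨w, hw⟩ : V) := by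
        intro w hw
        have h2 : b.pr e e' w = w := by rw [Frm.pr, hw.1, hw.2, mul_zero, zero_smul, zero_smul, sub_zero, sub_zero]
        rw [hxf, f_def, hw.1, hw.2, zero_smul, zero_smul, zero_add, zero_add]
        congr 2
        exact Subtype.ext h2
      refine ⟨x, hx, ?_, ?_, ?_⟩
      · intro r hr hs
        have hv := hC r
        have h2 := hs e heR
        rw [xr r hr, b.add_left, b.smul_left, h1, hv.1, add_zero] at h2
        have h3 : b.B r e' = 0 := (mul_eq_zero.1 h2).resolve_right b.ε_ne
        rw [xr r hr, h3, zero_smul, zero_add]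
        have h4 := i1 ⟨b.pr e e' r, prm r⟩ (prR r hr) (fun s hs' => by
          have h5 := hs s hs'
          rw [xr r hr, h3, zero_smul, zero_add] at h5
          exact h5)
        rw [h4]
        rfl
      · intro r hr
        have h2 := i2 ⟨b.pr e e' r, prm r⟩ (prR r hr)
        rw [xr r hr, hx.add, hx.smul, xC _ (hC r)]
        refine R.add_mem (R.smul_mem _ ?_) h2
        have h3 : x e' = b.ε • e := by
          have h4 : b.pr e e' e' = 0 := by
            have h5 := b.decomp e e' e'
            rw [he'e', h1, zero_smul, zero_add, mul_comm, b.ετ, one_smul] at h5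
            exact (left_eq_add.1 h5)
          rw [hxf, f_def, he'e', h1, zero_smul, zero_add]
          have h6 : x₁ ⟨b.pr e e' e', prm e'⟩ = 0 := by
            have h7 : (⟨b.pr e e' e', prm e'⟩ : b.hperp e e') = 0 := Subtype.ext h4
            rw [h7]
            have h8 := Frm.Iso.smul _ hx₁ 0 0
            rwa [zero_smul, zero_smul] at h8
          rw [h6]
          simp
        rw [h3]
        exact R.smul_mem _ heR
      · intro w hw1 hw2
        have h2 : b.B w e' = 0 := by
          have h3 := hw2 e heR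
          have h4 : x e = e' := by
            have h4 : b.pr e e' e = 0 := by
              have h5 := b.decomp e e' e
              rw [hee, hee', mul_zero, zero_smul, one_smul, add_zero] at h5
              exact (left_eq_add.1 h5)
            rw [hxf, f_def, hee, hee', zero_smul, add_zero, one_smul]
            have h6 : x₁ ⟨b.pr e e' e, prm e⟩ = 0 := by
              have h7 : (⟨b.pr e e' e, prm e⟩ : b.hperp e e') = 0 := Subtype.ext h4
              rw [h7]
              have h8 := Frm.Iso.smul _ hx₁ 0 0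
              rwa [zero_smul, zero_smul] at h8
            rw [h6]
            simp
          rwa [h4] at h3
        have hwC : w ∈ b.hperp e e' := ⟨hw1 e heR, h2⟩
        rw [xC w hwC]
        have h3 := i3 ⟨w, hwC⟩ (fun r hr => hw1 _ hr) (fun r hr => by
          have h4 := hw2 r hr
          rwa [xC _ r.2] at h4)
        rw [h3]

end Cfsg.Agent.H214.FC
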