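import Cfsg.Agent.H214.FC.Frm

/-!
# S5764: opposite parabolic subgroups without flags (helper214)

`exists_opp` : `P ≤ G` groups of semilinear similitudes of `(V, b)`, `P` a `p`-group of isometries normalized by `G`,
`p` the characteristic.  There is an isometry `x` with `P ∩ x G x⁻¹ = 1`.
-/

set_option autoImplicit false

namespace Cfsg.Agent.H214.FC

set_option linter.unusedSectionVars false

universe u v

variable {F : Type u} [Field F]

section count

variable {V : Type v} [AddCommGroup V] [Module F V] [Finite F] [Finite V] (b : Frm F V)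

/-- if a subgroup `D` of `V` pairs faithfully with the subspace `C` and `|C| ≤ |D|`, then `V = D + C^⊥` -/
theorem exists_sub (C : Submodule F V) {D : Type*} [Finite D] (j : D → V)
    (hj : ∀ d d', (∀ r ∈ C, b.B r (j d) = b.B r (j d')) → d = d') (hcard : Nat.card C ≤ Nat.card D) (v : V) :
    ∃ d, ∀ r ∈ C, b.B r (v - j d) = 0 := by
  have hfin : Module.Finite F V := Module.Finite.of_finite
  have hfinD : Finite (Module.Dual F C) := Module.finite_of_finite F
  let L : V → Module.Dual F C := fun w =>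
    { toFun := fun r => b.B r w
      map_add' := fun r s => b.add_left r s w
      map_smul' := fun a r => b.smul_left a r w }
  have hcd : Nat.card (Module.Dual F C) = Nat.card C := by
    rw [Module.natCard_eq_pow_finrank (K := F) (V := Module.Dual F C), Module.natCard_eq_pow_finrank (K := F) (V := C),
      Subspace.dual_finrank_eq]
  have hinj : Function.Injective (fun d => L (j d)) := by
    intro d d' h
    refine hj d d' fun r hr => ?_
    exact LinearMap.congr_fun h ⟨r, hr⟩
  have hbij := hinj.bijective_of_nat_card_le (by rw [hcd]; exact hcard)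
  obtain ⟨d, hd⟩ := hbij.2 (L v)
  refine ⟨d, fun r hr => ?_⟩
  have h1 := LinearMap.congr_fun hd ⟨r, hr⟩
  rw [b.sub_right, sub_eq_zero]
  exact h1.symm

end count

section fixed

variable {V : Type v} [AddCommGroup V] [Module F V] [Finite F] [Finite V]

/-- a `p`-group of additive maps of a non-zero subspace has a non-zero fixed point -/
theorem exists_fixed {p : ℕ} [Fact p.Prime] [CharP F p] {P : Subgroup (Equiv.Perm V)} (hP : IsPGroup p P)
    (N : Submodule F V) (hN : ∀ g ∈ P, ∀ w ∈ N, g w ∈ N) (h0 : ∀ g ∈ P, g 0 = 0) (hne : ∃ w ∈ N, w ≠ 0) :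
    ∃ w ∈ N, w ≠ 0 ∧ ∀ g ∈ P, g w = w := by
  let N' : SubMulAction P V := ⟨N, fun g {w} hw => hN g g.2 w hw⟩
  have hmem : ∀ w, w ∈ N' ↔ w ∈ N := fun _ => Iff.rfl
  have hcard : Nat.card N' = Nat.card N := rfl
  have hpd : p ∣ Nat.card N' := by
    rw [hcard]
    obtain ⟨w, hw, hw0⟩ := hne
    have h1 : addOrderOf (⟨w, hw⟩ : N) = p := by
      refine addOrderOf_eq_prime ?_ fun h => hw0 (congrArg Subtype.val h)
      apply Subtype.ext
      change p • w = 0
      rw [← Nat.cast_smul_eq_nsmul F, CharP.cast_eq_zero, zero_smul]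
    rw [← h1]
    exact addOrderOf_dvd_natCard _
  obtain ⟨w, hw, hne'⟩ := hP.exists_fixed_point_of_prime_dvd_card_of_fixed_point N' hpd
    (a := ⟨0, N.zero_mem⟩) (fun g => Subtype.ext (h0 g g.2))
  refine ⟨w, w.2, fun h => hne' (Subtype.ext h.symm), fun g hg => ?_⟩
  exact congrArg Subtype.val (hw ⟨g, hg⟩)

end fixed

/-- the data of the construction: `R` totally isotropic, `x₁` from `opp` -/
structure Opp {V : Type v} [AddCommGroup V] [Module F V] (b : Frm F V) (R : Submodule F V) (x : Equiv.Perm V) :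
    Prop where
  ti : ∀ r ∈ R, ∀ s ∈ R, b.B r s = 0
  iso : b.Iso x
  op : ∀ r ∈ R, (∀ s ∈ R, b.B (x r) s = 0) → x r = 0
  sq : ∀ r ∈ R, x (x r) ∈ R
  fix : ∀ w, (∀ r ∈ R, b.B w r = 0) → (∀ r ∈ R, b.B w (x r) = 0) → x w = w

namespace Opp

variable {V : Type v} [AddCommGroup V] [Module F V] [Finite F] [Finite V] {b : Frm F V} {R : Submodule F V}
  {x : Equiv.Perm V}

/-- `V₀ = (R + x R)^⊥` -/
def W (_ : Opp b R x) : Submodule F V where
  carrier := {w | (∀ r ∈ R, b.B w r = 0) ∧ ∀ r ∈ R, b.B w (x r) = 0}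
  add_mem' := fun {u v} hu hv => ⟨fun r hr => by rw [b.add_left, hu.1 r hr, hv.1 r hr, add_zero], fun r hr => by
    rw [b.add_left, hu.2 r hr, hv.2 r hr, add_zero]⟩
  zero_mem' := ⟨fun r _ => b.zero_left r, fun r _ => b.zero_left _⟩
  smul_mem' := fun a v hv => ⟨fun r hr => by rw [b.smul_left, hv.1 r hr, mul_zero], fun r hr => by
    rw [b.smul_left, hv.2 r hr, mul_zero]⟩

theorem mem_W (h : Opp b R x) {w : V} : w ∈ h.W ↔ (∀ r ∈ R, b.B w r = 0) ∧ ∀ r ∈ R, b.B w (x r) = 0 := Iff.rfl

/-- `R → x R` -/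
theorem exists_R' (h : Opp b R x) (v : V) : ∃ r ∈ R, ∀ s ∈ R, b.B s (v - x r) = 0 := by
  obtain ⟨d, hd⟩ := exists_sub b R (D := R) (fun r => x r) (fun d d' hdd => by
    have h1 : x ((d - d' : R) : V) = 0 := by
      apply h.op _ (d - d').2
      intro s hs
      apply b.zero_comm
      rw [Submodule.coe_sub, sub_eq_add_neg, h.iso.add, ← neg_one_smul F, h.iso.smul, neg_one_smul, ← sub_eq_add_neg,
        b.sub_right, hdd s hs, sub_self]
    have h2 : ((d - d' : R) : V) = 0 := by
      apply x.injective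
      rw [h1]
      have h3 := h.iso.smul b 0 0
      rw [zero_smul, zero_smul] at h3
      exact h3.symm
    exact sub_eq_zero.1 (Subtype.ext h2)) le_rfl v
  exact ⟨d, d.2, hd⟩

theorem x_zero (h : Opp b R x) : x 0 = 0 := by
  have h3 := h.iso.smul b 0 0
  rwa [zero_smul, zero_smul] at h3

theorem sq_surj (h : Opp b R x) {s : V} (hs : s ∈ R) : ∃ r ∈ R, x (x r) = s := by
  let f : R → R := fun r => ⟨x (x r), h.sq r r.2⟩
  have hf : Function.Injective f := fun a c hac => Subtype.ext (x.injective (x.injective (congrArg Subtype.val hac)))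
  obtain ⟨r, hr⟩ := (Finite.injective_iff_surjective.1 hf) ⟨s, hs⟩
  exact ⟨r, r.2, congrArg Subtype.val hr⟩

theorem exists_R (h : Opp b R x) (v : V) : ∃ r ∈ R, ∀ s ∈ R, b.B (x s) (v - r) = 0 := by
  obtain ⟨r, hr, hrs⟩ := h.exists_R' (x v)
  refine ⟨r, hr, fun s hs => ?_⟩
  have h1 : x (v - r) = x v - x r := by
    rw [sub_eq_add_neg, h.iso.add, ← neg_one_smul F, h.iso.smul, neg_one_smul, ← sub_eq_add_neg]
  rw [← h.iso, h1]
  exact hrs _ (h.sq s hs)

theorem ti' (h : Opp b R x) : ∀ r ∈ R, ∀ s ∈ R, b.B (x r) (x s) = 0 := fun r hr s hs => by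
  rw [h.iso]; exact h.ti r hr s hs

/-- the projection exists -/
theorem exists_proj (h : Opp b R x) (v : V) : ∃ w ∈ h.W, ∃ r ∈ R, ∃ s ∈ R, v = w + r + x s := by
  obtain ⟨s, hs, h1⟩ := h.exists_R' v
  obtain ⟨r, hr, h2⟩ := h.exists_R (v - x s)
  refine ⟨v - x s - r, ⟨fun t ht => ?_, fun t ht => b.zero_comm (h2 t ht)⟩, r, hr, s, hs, by abel⟩
  rw [b.sub_left, b.zero_comm (h1 t ht), h.ti r hr t ht, sub_zero]

theorem proj_unique (h : Opp b R x) {w r s w' r' s' : V} (hw : w ∈ h.W) (hr : r ∈ R) (hs : s ∈ R)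
    (hw' : w' ∈ h.W) (hr' : r' ∈ R) (hs' : s' ∈ R) (he : w + r + x s = w' + r' + x s') : w = w' ∧ r = r' ∧ s = s' := by
  have xsub : ∀ a c : V, x (a - c) = x a - x c := fun a c => by
    rw [sub_eq_add_neg, h.iso.add, ← neg_one_smul F, h.iso.smul, neg_one_smul, ← sub_eq_add_neg]
  have e1 : (w - w') + (r - r') + x (s - s') = 0 := by
    rw [xsub]
    have h2 := sub_eq_zero.2 he
    rw [← h2]
    abel
  have hww := h.W.sub_mem hw hw'
  have hrr := R.sub_mem hr hr'
  have hss := R.sub_mem hs hs'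
  have e2 : x (s - s') = 0 := by
    apply h.op _ hss
    intro t ht
    have h3 : x (s - s') = -((w - w') + (r - r')) := by
      rw [eq_neg_iff_add_eq_zero, add_comm]; exact e1
    rw [h3, b.neg_left, b.add_left, hww.1 t ht, h.ti _ hrr t ht, add_zero, neg_zero]
  have e3 : s - s' = 0 := by
    apply x.injective
    rw [e2, h.x_zero]
  rw [e2, add_zero] at e1
  have e4 : r - r' = 0 := by
    have h3 : r - r' = -(w - w') := by
      rw [eq_neg_iff_add_eq_zero, add_comm]; exact e1
    -- `r - r'` is orthogonal to `x R` and to `R`, so `x (r - r')` is orthogonal to `x (x R) = R`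
    have h5 : x (r - r') = 0 := by
      apply h.op _ hrr
      intro t ht
      obtain ⟨t', ht', rfl⟩ := h.sq_surj ht
      rw [h.iso, h3, b.neg_left, hww.2 t' ht', neg_zero]
    apply x.injective
    rw [h5, h.x_zero]
  rw [e4, add_zero] at e1
  exact ⟨sub_eq_zero.1 e1, sub_eq_zero.1 e4, sub_eq_zero.1 e3⟩

theorem W_nondeg (h : Opp b R x) : ∀ w ∈ h.W, (∀ w' ∈ h.W, b.B w w' = 0) → w = 0 := by
  intro w hw hww
  refine b.nondeg w fun v => ?_
  obtain ⟨w', hw', r, hr, s, hs, rfl⟩ := h.exists_proj v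
  rw [b.add_right, b.add_right, hww w' hw', hw.1 r hr, hw.2 s hs, add_zero, add_zero]

/-- the projection onto `V₀` -/
noncomputable def π (h : Opp b R x) (v : V) : V := (h.exists_proj v).choose

theorem π_mem (h : Opp b R x) (v : V) : h.π v ∈ h.W := (h.exists_proj v).choose_spec.1

theorem π_spec (h : Opp b R x) (v : V) : ∃ r ∈ R, ∃ s ∈ R, v = h.π v + r + x s := (h.exists_proj v).choose_spec.2

theorem π_eq (h : Opp b R x) {v w r s : V} (hw : w ∈ h.W) (hr : r ∈ R) (hs : s ∈ R) (he : v = w + r + x s) :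
    h.π v = w := by
  obtain ⟨r', hr', s', hs', he'⟩ := h.π_spec v
  exact (h.proj_unique (h.π_mem v) hr' hs' hw hr hs (he'.symm.trans he)).1

theorem π_of_mem (h : Opp b R x) {w : V} (hw : w ∈ h.W) : h.π w = w :=
  h.π_eq hw R.zero_mem R.zero_mem (by rw [h.x_zero]; simp)

theorem π_add (h : Opp b R x) (u v : V) : h.π (u + v) = h.π u + h.π v := by
  obtain ⟨r, hr, s, hs, hu⟩ := h.π_spec u
  obtain ⟨r', hr', s', hs', hv⟩ := h.π_spec v
  refine h.π_eq (h.W.add_mem (h.π_mem u) (h.π_mem v)) (R.add_mem hr hr') (R.add_mem hs hs') ?_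
  rw [h.iso.add]
  conv_lhs => rw [hu, hv]
  abel

theorem π_smul (h : Opp b R x) (a : F) (v : V) : h.π (a • v) = a • h.π v := by
  obtain ⟨r, hr, s, hs, hv⟩ := h.π_spec v
  refine h.π_eq (h.W.smul_mem a (h.π_mem v)) (R.smul_mem a hr) (R.smul_mem a hs) ?_
  rw [h.iso.smul]
  conv_lhs => rw [hv]
  rw [smul_add, smul_add]

theorem π_of_R (h : Opp b R x) {r : V} (hr : r ∈ R) : h.π r = 0 :=
  h.π_eq h.W.zero_mem hr R.zero_mem (by rw [h.x_zero]; simp)

/-- on `R^⊥` the projection has values modulo `R` -/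
theorem π_perp (h : Opp b R x) {v : V} (hv : ∀ r ∈ R, b.B v r = 0) : ∃ r ∈ R, v = h.π v + r := by
  obtain ⟨r, hr, s, hs, he⟩ := h.π_spec v
  have h1 : x s = 0 := by
    apply h.op s hs
    intro t ht
    have h2 := hv t ht
    rw [he, b.add_left, b.add_left, (h.π_mem v).1 t ht, h.ti r hr t ht, zero_add, zero_add] at h2
    exact h2
  rw [h1, add_zero] at he
  exact ⟨r, hr, he⟩

theorem π_form (h : Opp b R x) {u v : V} (hu : ∀ r ∈ R, b.B u r = 0) (hv : ∀ r ∈ R, b.B v r = 0) :
    b.B (h.π u) (h.π v) = b.B u v := by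
  obtain ⟨r, hr, he⟩ := h.π_perp hu
  obtain ⟨s, hs, he'⟩ := h.π_perp hv
  conv_rhs => rw [he, he']
  rw [b.add_left, b.add_right, b.add_right, (h.π_mem u).1 s hs, b.zero_comm ((h.π_mem v).1 r hr), h.ti r hr s hs]
  ring

/-- the action on `V₀ ≅ R^⊥/R` -/
noncomputable def act (h : Opp b R x) (G : Subgroup (Equiv.Perm V))
    (hG : ∀ g ∈ G, ∃ (φ : F ≃+* F) (l : F), b.IsSemi g φ l) (hR : ∀ g ∈ G, ∀ r ∈ R, g r ∈ R) :
    G →* Equiv.Perm h.W :=
  have hperp : ∀ g ∈ G, ∀ w, (∀ r ∈ R, b.B w r = 0) → ∀ r ∈ R, b.B (g w) r = 0 := by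
    intro g hg w hw r hr
    obtain ⟨φ, l, hs⟩ := hG g hg
    have h1 := hs.2.2 w (g⁻¹ r)
    rw [Frm.apply_inv, hw _ (hR _ (G.inv_mem hg) r hr), map_zero, mul_zero] at h1
    exact h1
  have hmul : ∀ g ∈ G, ∀ k ∈ G, ∀ w ∈ h.W, h.π (g (h.π (k w))) = h.π (g (k w)) := by
    intro g hg k hk w hw
    obtain ⟨r, hr, he⟩ := h.π_perp (hperp k hk w hw.1)
    obtain ⟨φ, l, hs⟩ := hG g hg
    conv_rhs => rw [he, hs.1, h.π_add, h.π_of_R (hR g hg r hr), add_zero]
  { toFun := fun g =>
      { toFun := fun w => ⟨h.π (g.1 w), h.π_mem _⟩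
        invFun := fun w => ⟨h.π (g.1⁻¹ w), h.π_mem _⟩
        left_inv := fun w => Subtype.ext (by
          change h.π (g.1⁻¹ (h.π (g.1 w))) = w
          rw [hmul _ (G.inv_mem g.2) _ g.2 _ w.2, Frm.inv_apply, h.π_of_mem w.2])
        right_inv := fun w => Subtype.ext (by
          change h.π (g.1 (h.π (g.1⁻¹ w))) = w
          rw [hmul _ g.2 _ (G.inv_mem g.2) _ w.2, Frm.apply_inv, h.π_of_mem w.2]) }
    map_one' := by
      apply Equiv.ext
      intro w
      exact Subtype.ext (h.π_of_mem w.2)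
    map_mul' := fun g k => by
      apply Equiv.ext
      intro w
      apply Subtype.ext
      exact (hmul _ g.2 _ k.2 _ w.2).symm }

end Opp

/-- **opposite parabolic subgroups** -/
theorem exists_opp {p : ℕ} [Fact p.Prime] [CharP F p] [Finite F] (n : ℕ) : ∀ (V : Type v) [AddCommGroup V]
    [Module F V] [Finite V] (b : Frm F V) (G P : Subgroup (Equiv.Perm V)), Nat.card V ≤ n →
    (∀ g ∈ G, ∃ (φ : F ≃+* F) (l : F), b.IsSemi g φ l) → P ≤ G → (∀ g ∈ G, ∀ v ∈ P, g * v * g⁻¹ ∈ P) →
    (∀ v ∈ P, b.Iso v) → IsPGroup p P → ∃ x : Equiv.Perm V, b.Iso x ∧ (∀ v ∈ P, x⁻¹ * v * x ∈ G → v = 1) ∧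
      ((∃ v ∈ P, v ≠ 1) → ∃ e e' : V, b.B e e = 0 ∧ b.B e' e' = 0 ∧ b.B e e' = 1 ∧
        ∀ d : Equiv.Perm V, b.Iso d → (∃ a : F, d e = a • e) → (∃ a : F, d e' = a • e') →
          (∀ w, b.B w e = 0 → b.B w e' = 0 → d w = w) → ∀ v ∈ P, (d * x)⁻¹ * v * (d * x) ∈ G → v = 1) := by
  induction n with
  | zero =>
      intro V _ _ _ b G P hn
      have := Nat.card_pos (α := V)
      omega
  | succ n ih =>
      intro V _ _ _ b G P hn hG hPG hPn hPi hPp
      by_cases hP1 : ∀ v ∈ P, v = 1
      · exact ⟨1, b.iso_one, fun v hv _ => hP1 v hv, fun ⟨v, hv, h⟩ => absurd (hP1 v hv) h⟩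
      -- the fixed space
      let C : Submodule F V :=
        { carrier := {v | ∀ g ∈ P, g v = v}
          add_mem' := fun {u v} hu hv g hg => by rw [(hPi g hg).add, hu g hg, hv g hg]
          zero_mem' := fun g hg => by
            have h := (hPi g hg).smul b 0 0
            rwa [zero_smul, zero_smul] at h
          smul_mem' := fun a v hv g hg => by rw [(hPi g hg).smul, hv g hg] }
      have mC : ∀ v, v ∈ C ↔ ∀ g ∈ P, g v = v := fun _ => Iff.rfl
      have CG : ∀ g ∈ G, ∀ v ∈ C, g v ∈ C := by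
        intro g hg v hv k hk
        have h1 := hPn g⁻¹ (G.inv_mem hg) k hk
        rw [inv_inv] at h1
        have h2 := hv _ h1
        rw [Equiv.Perm.mul_apply, Equiv.Perm.mul_apply] at h2
        have h3 := congrArg g h2
        rwa [Frm.apply_inv] at h3
      let R : Submodule F V := C ⊓ b.perp C
      have RC : ∀ r ∈ R, ∀ g ∈ P, g r = r := fun r hr => hr.1
      have Rti : ∀ r ∈ R, ∀ s ∈ R, b.B r s = 0 := fun r hr s hs => hr.2 s hs.1
      have RG : ∀ g ∈ G, ∀ r ∈ R, g r ∈ R := by
        intro g hg r hr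
        refine ⟨CG g hg r hr.1, fun s hs => ?_⟩
        obtain ⟨φ, l, hsm⟩ := hG g hg
        have h1 := hsm.2.2 r (g⁻¹ s)
        rw [Frm.apply_inv, hr.2 _ (CG _ (G.inv_mem hg) s hs), map_zero, mul_zero] at h1
        exact h1
      have hz : ∀ g ∈ P, g 0 = 0 := fun g hg => by
        have h := (hPi g hg).smul b 0 0
        rwa [zero_smul, zero_smul] at h
      -- `R ≠ 0`
      obtain ⟨e, heR, he⟩ : ∃ e ∈ R, e ≠ 0 := by
        by_contra hR0
        push Not at hR0
        have hperp0 : ∀ w ∈ b.perp C, w = 0 := by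
          by_contra hcon
          push Not at hcon
          obtain ⟨w, hw, hw0, hwf⟩ := exists_fixed hPp (b.perp C) (fun g hg w hw s hs => by
            have h1 := (hPi g hg) w s
            rw [hs g hg, hw s hs] at h1
            exact h1) hz hcon
          exact hw0 (hR0 w ⟨hwf, hw⟩)
        apply hP1
        have hall : ∀ v, v ∈ C := by
          -- a proper subspace has a non-zero orthogonal vector: count
          have hfin : Module.Finite F V := Module.Finite.of_finite
          by_contra hcon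
          push Not at hcon
          obtain ⟨v, hv⟩ := hcon
          have hle : Nat.card V ≤ Nat.card C := by
            let L : V → Module.Dual F C := fun w =>
              { toFun := fun r => b.B r w
                map_add' := fun r s => b.add_left r s w
                map_smul' := fun a r => b.smul_left a r w }
            have hfinD : Finite (Module.Dual F C) := Module.finite_of_finite F
            have hcd : Nat.card (Module.Dual F C) = Nat.card C := by
              rw [Module.natCard_eq_pow_finrank (K := F) (V := Module.Dual F C),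
                Module.natCard_eq_pow_finrank (K := F) (V := C), Subspace.dual_finrank_eq]
            rw [← hcd]
            refine Nat.card_le_card_of_injective L fun u w huw => ?_
            have h1 : u - w ∈ b.perp C := fun r hr => by
              apply b.zero_comm
              rw [b.sub_right, sub_eq_zero]
              exact LinearMap.congr_fun huw ⟨r, hr⟩
            exact sub_eq_zero.1 (hperp0 _ h1)
          have hbij := (Subtype.val_injective (p := fun v => v ∈ C)).bijective_of_nat_card_le hle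
          obtain ⟨y, hy⟩ := hbij.2 v
          exact hv (hy ▸ y.2)
        intro v hv
        apply Equiv.ext
        intro u
        exact hall u v hv
      obtain ⟨x₁, hx1, hx2, hx3, hx4⟩ := opp (Nat.card V) V b R le_rfl Rti
      have O : Opp b R x₁ := ⟨Rti, hx1, hx2, hx3, hx4⟩
      -- the action on `V₀`
      let ρ := O.act G hG RG
      have hρ : ∀ (g : G) (w : O.W), ((ρ g w : O.W) : V) = O.π (g.1 w) := fun _ _ => rfl
      have hperp : ∀ g ∈ G, ∀ w, (∀ r ∈ R, b.B w r = 0) → ∀ r ∈ R, b.B (g w) r = 0 := by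
        intro g hg w hw r hr
        obtain ⟨φ, l, hs⟩ := hG g hg
        have h1 := hs.2.2 w (g⁻¹ r)
        rw [Frm.apply_inv, hw _ (RG _ (G.inv_mem hg) r hr), map_zero, mul_zero] at h1
        exact h1
      have heW : e ∉ O.W := by
        intro h
        have h1 := (O.proj_unique h R.zero_mem R.zero_mem O.W.zero_mem heR R.zero_mem (by simp)).1
        exact he h1
      have hcardW : Nat.card O.W ≤ n := by
        have h1 : Nat.card O.W < Nat.card V := by
          refine lt_of_le_of_ne (Nat.card_le_card_of_injective _ (Subtype.val_injective)) fun h => heW ?_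
          have h2 := (Nat.bijective_iff_injective_and_card (Subtype.val : O.W → V)).2 ⟨Subtype.val_injective, h⟩
          obtain ⟨y, hy⟩ := h2.2 e
          have h3 := y.2
          rw [hy] at h3
          exact h3
        omega
      obtain ⟨y, hy, hyP, -⟩ := ih O.W (b.restr O.W O.W_nondeg) ρ.range ((P.subgroupOf G).map ρ) hcardW
        (by
          rintro _ ⟨g, rfl⟩
          obtain ⟨φ, l, hs⟩ := hG g g.2
          refine ⟨φ, l, fun u v => Subtype.ext ?_, fun a v => Subtype.ext ?_, fun u v => ?_⟩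
          · change O.π (g.1 (u + v)) = O.π (g.1 u) + O.π (g.1 v)
            rw [hs.1, O.π_add]
          · change O.π (g.1 (a • (v : V))) = φ a • O.π (g.1 v)
            rw [hs.2.1, O.π_smul]
          · change b.B (O.π (g.1 u)) (O.π (g.1 v)) = l * φ (b.B u v)
            rw [O.π_form (hperp _ g.2 _ u.2.1) (hperp _ g.2 _ v.2.1), hs.2.2])
        (by
          rintro _ ⟨g, -, rfl⟩
          exact ⟨g, rfl⟩)
        (by
          rintro _ ⟨g, rfl⟩ _ ⟨v, hv, rfl⟩
          refine ⟨g * v * g⁻¹, ?_, by rw [map_mul, map_mul, map_inv]⟩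
          exact Subgroup.mem_subgroupOf.2 (hPn _ g.2 _ (Subgroup.mem_subgroupOf.1 hv)))
        (by
          rintro _ ⟨v, hv, rfl⟩ u w
          have hvP : v.1 ∈ P := Subgroup.mem_subgroupOf.1 hv
          change b.B (O.π (v.1 u)) (O.π (v.1 w)) = b.B u w
          rw [O.π_form (hperp _ v.2 _ u.2.1) (hperp _ v.2 _ w.2.1)]
          exact hPi _ hvP _ _)
        ((hPp.comap_of_injective G.subtype Subtype.val_injective).map ρ)
      -- the isometry `x`
      have hyW : ∀ w : O.W, ((y w : O.W) : V) ∈ O.W := fun w => (y w).2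
      have hyadd : ∀ u w : O.W, y (u + w) = y u + y w := fun u w => Frm.Iso.add _ hy u w
      obtain ⟨x, hxf, hx⟩ := b.exists_iso (fun v => (y ⟨O.π (x₁ v), O.π_mem _⟩ : V) + (x₁ v - O.π (x₁ v))) (by
        intro u v
        rw [← hx1 u v]
        generalize x₁ u = u'
        generalize x₁ v = v'
        have hB : b.B (y ⟨O.π u', O.π_mem _⟩ : V) (y ⟨O.π v', O.π_mem _⟩ : V) = b.B (O.π u') (O.π v') := hy _ _
        obtain ⟨r, hr, s, hs, hu⟩ := O.π_spec u'
        obtain ⟨r', hr', s', hs', hv⟩ := O.π_spec v'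
        have eu : u' - O.π u' = r + x₁ s := by
          conv_lhs => rw [hu]
          have h9 : O.π (O.π u' + r + x₁ s) = O.π u' := by rw [← hu]
          rw [h9]
          abel
        have ev : v' - O.π v' = r' + x₁ s' := by
          conv_lhs => rw [hv]
          have h9 : O.π (O.π v' + r' + x₁ s') = O.π v' := by rw [← hv]
          rw [h9]
          abel
        have m1 := hyW ⟨O.π u', O.π_mem _⟩
        have m2 := hyW ⟨O.π v', O.π_mem _⟩
        have m3 := O.π_mem u'
        have m4 := O.π_mem v'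
        have z1 : b.B (y ⟨O.π u', O.π_mem _⟩ : V) (r' + x₁ s') = 0 := by
          rw [b.add_right, m1.1 _ hr', m1.2 _ hs', add_zero]
        have z2 : b.B (r + x₁ s) (y ⟨O.π v', O.π_mem _⟩ : V) = 0 := by
          rw [b.add_left, b.zero_comm (m2.1 _ hr), b.zero_comm (m2.2 _ hs), add_zero]
        have z3 : b.B (O.π u') (r' + x₁ s') = 0 := by
          rw [b.add_right, m3.1 _ hr', m3.2 _ hs', add_zero]
        have z4 : b.B (r + x₁ s) (O.π v') = 0 := by
          rw [b.add_left, b.zero_comm (m4.1 _ hr), b.zero_comm (m4.2 _ hs), add_zero]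
        have e3 : b.B u' v' = b.B (O.π u' + (r + x₁ s)) (O.π v' + (r' + x₁ s')) := by
          rw [← add_assoc, ← add_assoc, ← hu, ← hv]
        rw [eu, ev, e3]
        simp only [b.add_left (y ⟨O.π u', O.π_mem _⟩ : V), b.add_right _ (y ⟨O.π v', O.π_mem _⟩ : V),
          b.add_left (O.π u'), b.add_right _ (O.π v'), hB, z1, z2, z3, z4])
      have hy0 : y 0 = 0 := by
        have h := Frm.Iso.smul _ hy 0 0
        rwa [zero_smul, zero_smul] at h
      have xR : ∀ r ∈ R, x r = x₁ r := by
        intro r hr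
        have h1 : O.π (x₁ r) = 0 := O.π_eq O.W.zero_mem R.zero_mem hr (by simp)
        rw [hxf]
        have h2 : (⟨O.π (x₁ r), O.π_mem _⟩ : O.W) = 0 := Subtype.ext h1
        rw [h2, hy0, h1]
        simp
      have xW : ∀ w : O.W, x (w : V) = (y w : V) := by
        intro w
        have h1 : x₁ (w : V) = w := O.fix w w.2.1 w.2.2
        have h2 : O.π (w : V) = w := O.π_of_mem w.2
        rw [hxf, h1]
        have h3 : (⟨O.π (w : V), O.π_mem _⟩ : O.W) = w := Subtype.ext h2
        rw [h3, h2, sub_self, add_zero]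
      -- the partner of `e`
      obtain ⟨s₀, hs₀, hes⟩ : ∃ s ∈ R, b.B e (x₁ s) = 1 := by
        obtain ⟨s, hs, hs1⟩ : ∃ s ∈ R, b.B e (x₁ s) ≠ 0 := by
          by_contra hcon
          push Not at hcon
          exact heW ⟨fun r hr => Rti e heR r hr, hcon⟩
        refine ⟨b.τ (b.B e (x₁ s))⁻¹ • s, R.smul_mem _ hs, ?_⟩
        rw [hx1.smul, b.smul_right, b.ττ, inv_mul_cancel₀ hs1]
      have main : ∀ d : Equiv.Perm V, b.Iso d → (∃ a : F, d e = a • e) → (∃ a : F, d (x₁ s₀) = a • x₁ s₀) →
          (∀ w, b.B w e = 0 → b.B w (x₁ s₀) = 0 → d w = w) → ∀ v ∈ P, (d * x)⁻¹ * v * (d * x) ∈ G → v = 1 := by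
        intro d hd ⟨a, hda⟩ ⟨a', hda'⟩ hdw v hv hg
        have hse : b.B (x₁ s₀) e = b.ε := b.swap_hyp hes
        -- `d` on `x₁ R` and on `V₀`
        have dR : ∀ s ∈ R, ∃ s' ∈ R, d (x₁ s) = x₁ s' := by
          intro s hs
          obtain ⟨c, hc⟩ : ∃ c : F, c = b.τ b.ε * b.B (x₁ s) e := ⟨_, rfl⟩
          have h1 : d (x₁ s - c • x₁ s₀) = x₁ s - c • x₁ s₀ := by
            apply hdw
            · rw [b.sub_left, b.smul_left, hse, hc]
              linear_combination (-b.B (x₁ s) e) * b.ετ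
            · rw [b.sub_left, b.smul_left, hx1, hx1, Rti s hs s₀ hs₀, Rti s₀ hs₀ s₀ hs₀]
              ring
          refine ⟨(s - c • s₀) + (c * a') • s₀, R.add_mem (R.sub_mem hs (R.smul_mem _ hs₀)) (R.smul_mem _ hs₀), ?_⟩
          have e1 : x₁ s = (x₁ s - c • x₁ s₀) + c • x₁ s₀ := by abel
          have e2 : x₁ (s - c • s₀) = x₁ s - c • x₁ s₀ := by
            rw [sub_eq_add_neg, hx1.add, ← neg_smul, hx1.smul, neg_smul, ← sub_eq_add_neg]
          rw [hx1.add, hx1.smul, e2]
          conv_lhs => rw [e1, hd.add, h1, hd.smul, hda', smul_smul]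
        have dW : ∀ w ∈ O.W, d w = w := fun w hw => hdw w (hw.1 e heR) (hw.2 s₀ hs₀)
        obtain ⟨z, hzd⟩ : ∃ z, z = d * x := ⟨_, rfl⟩
        rw [← hzd] at hg
        have hzi : b.Iso z := by rw [hzd]; exact hd.mul b hx
        have zR : ∀ r ∈ R, ∃ s ∈ R, z r = x₁ s := by
          intro r hr
          obtain ⟨s, hs, h1⟩ := dR r hr
          exact ⟨s, hs, by rw [hzd, Equiv.Perm.mul_apply, xR r hr, h1]⟩
        have zW : ∀ w : O.W, z (w : V) = (y w : V) := by
          intro w
          rw [hzd, Equiv.Perm.mul_apply, xW w, dW _ (y w).2]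
        -- `x₁ s = z r`
        have zR' : ∀ s ∈ R, ∃ r ∈ R, x₁ s = z r := by
          choose! f hf1 hf2 using zR
          have hinj : Function.Injective (fun r : R => (⟨f r, hf1 r r.2⟩ : R)) := by
            intro r r' h
            have h1 : f r = f r' := congrArg Subtype.val h
            apply Subtype.ext
            apply z.injective
            rw [hf2 _ r.2, hf2 _ r'.2, h1]
          intro s hs
          obtain ⟨r, hr⟩ := (Finite.injective_iff_surjective.1 hinj) ⟨s, hs⟩
          have h1 : f r = s := congrArg Subtype.val hr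
          exact ⟨r, r.2, by rw [hf2 _ r.2, h1]⟩
        have vR : ∀ r ∈ R, v r = r := fun r hr => RC r hr v hv
        have vi := hPi v hv
        obtain ⟨g, hgd⟩ : ∃ g, g = z⁻¹ * v * z := ⟨_, rfl⟩
        rw [← hgd] at hg
        have hvz : ∀ u, v (z u) = z (g u) := by
          intro u
          rw [hgd, Equiv.Perm.mul_apply, Equiv.Perm.mul_apply, Frm.apply_inv]
        have vR' : ∀ s ∈ R, v (x₁ s) = x₁ s := by
          intro s hs
          obtain ⟨r, hr, h1⟩ := zR' s hs
          obtain ⟨s', hs', h2⟩ := zR (g r) (RG g hg r hr)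
          have h3 : v (x₁ s) = x₁ s' := by rw [h1, hvz, h2]
          have h4 : x₁ (s' - s) = 0 := by
            apply O.op _ (R.sub_mem hs' hs)
            intro t ht
            have e2 : x₁ (s' - s) = x₁ s' - x₁ s := by
              rw [sub_eq_add_neg, hx1.add, ← neg_one_smul F, hx1.smul, neg_one_smul, ← sub_eq_add_neg]
            rw [e2, b.sub_left, ← h3, sub_eq_zero]
            conv_lhs => rw [← vR t ht]
            exact vi _ _
          have h5 : s' - s = 0 := by
            apply x₁.injective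
            rw [h4, O.x_zero]
          rw [h3, sub_eq_zero.1 h5]
        have vW : ∀ w ∈ O.W, v w ∈ O.W := by
          intro w hw
          refine ⟨fun r hr => ?_, fun r hr => ?_⟩
          · rw [← vR r hr, vi]; exact hw.1 r hr
          · rw [← vR' r hr, vi]; exact hw.2 r hr
        have key : ρ ⟨v, hPG hv⟩ = 1 := by
          refine hyP _ ⟨⟨v, hPG hv⟩, Subgroup.mem_subgroupOf.2 hv, rfl⟩ ⟨⟨g, hg⟩, ?_⟩
          apply Equiv.ext
          intro w
          -- `g w = y⁻¹ (v (y w))`
          have h1 : g (w : V) = (y⁻¹ ⟨v (y w : V), vW _ (y w).2⟩ : O.W) := by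
            apply z.injective
            rw [← hvz, zW, zW]
            have h2 : y (y⁻¹ ⟨v (y w : V), vW _ (y w).2⟩) = ⟨v (y w : V), vW _ (y w).2⟩ := y.apply_symm_apply _
            rw [h2]
          apply Subtype.ext
          change O.π (g w) = _
          rw [h1, O.π_of_mem (Subtype.property _)]
          have h2 : ρ ⟨v, hPG hv⟩ (y w) = ⟨v (y w : V), vW _ (y w).2⟩ := by
            apply Subtype.ext
            change O.π (v (y w : V)) = v (y w : V)
            exact O.π_of_mem (vW _ (y w).2)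
          rw [← h2]
          rfl
        apply Equiv.ext
        intro u
        obtain ⟨w, hw, r, hr, s, hs, rfl⟩ := O.exists_proj u
        have h1 : v w = w := by
          have h2 := congrArg (fun q : Equiv.Perm O.W => ((q ⟨w, hw⟩ : O.W) : V)) key
          change O.π (v w) = w at h2
          rwa [O.π_of_mem (vW w hw)] at h2
        rw [vi.add, vi.add, h1, vR r hr, vR' s hs]
        rfl
      refine ⟨x, hx, ?_, fun _ => ⟨e, x₁ s₀, Rti e heR e heR, ?_, hes, main⟩⟩
      · intro v hv hg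
        exact main 1 b.iso_one ⟨1, by rw [one_smul]; rfl⟩ ⟨1, by rw [one_smul]; rfl⟩ (fun w _ _ => rfl) v hv
          (by rwa [one_mul])
      · rw [hx1]; exact Rti s₀ hs₀ s₀ hs₀

end Cfsg.Agent.H214.FC
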